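import Mathlib
import Cfsg.Agent.Helper6.Induced

set_option autoImplicit false

/-!
# S4538 / S2440, piece GL (helper2): characters sharing irreducible constituents

If the irreducible character `χ` occurs `a` times in the character `Θ₁` and `b` times in the
character `Θ₂`, then `⟨Θ₁, Θ₂⟩ ≥ a b`; two distinct common constituents give `⟨Θ₁, Θ₂⟩ ≥ 2`.
-/

namespace Cfsg.Agent.SLBlk

open Cfsg Cfsg.Agent.Helper6
open scoped ComplexConjugate

universe u

variable {G : Type u} [Group G] [Fintype G]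

/-- The inner product of an irreducible character with a character, the other way round. -/
theorem gl_inner_symm {Θ χ : G → ℂ} (hΘ : IsCharacter G Θ) (hχ : IsIrrCharacter G χ) {a : ℕ}
    (ha : classInner Θ χ = a) : classInner χ Θ = a := by
  rw [classInner_conj_symm Θ χ, ha, Complex.conj_natCast]

/-- Removing an irreducible constituent with its full multiplicity leaves a character. -/
theorem gl_sub_char {Θ χ : G → ℂ} (hΘ : IsCharacter G Θ) (hχ : IsIrrCharacter G χ) {a : ℕ}
    (ha : classInner Θ χ = a) : IsCharacter G (Θ - (a : ℂ) • χ) := by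
  apply isCharacter_of_classInner_nat
  · exact IsClassFunction.sub (IsCharacter.isClassFunction hΘ)
      (IsClassFunction.smul _ (IsCharacter.isClassFunction (IsIrrCharacter.isCharacter hχ)))
  · intro θ hθ
    rw [classInner_sub_left, classInner_smul_left]
    by_cases h : χ = θ
    · subst h
      refine ⟨0, ?_⟩
      rw [ha, classInner_irr_self hχ, mul_one, sub_self, Nat.cast_zero]
    · rw [classInner_irr_ne hχ hθ h, mul_zero, sub_zero]
      exact classInner_char_char_nat hΘ (IsIrrCharacter.isCharacter hθ)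

/-- (GL) two characters sharing the irreducible constituent `χ`. -/
theorem gl_inner_ge {Θ₁ Θ₂ χ : G → ℂ}
    (h1 : IsCharacter G Θ₁) (h2 : IsCharacter G Θ₂) (hχ : IsIrrCharacter G χ) {a b k : ℕ}
    (ha : classInner Θ₁ χ = a) (hb : classInner Θ₂ χ = b) (hk : classInner Θ₁ Θ₂ = k) :
    a * b ≤ k := by
  have hR := gl_sub_char h1 hχ ha
  obtain ⟨n, hn⟩ := classInner_char_char_nat hR h2
  have hb' := gl_inner_symm h2 hχ hb
  have e : Θ₁ = (a : ℂ) • χ + (Θ₁ - (a : ℂ) • χ) := by
    rw [add_sub_cancel]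
  have hk2 : classInner Θ₁ Θ₂ = ((a * b + n : ℕ) : ℂ) := by
    conv_lhs => rw [e]
    rw [classInner_add_left, classInner_smul_left, hb', hn]
    push_cast
    ring
  rw [hk] at hk2
  have := Nat.cast_injective (R := ℂ) hk2
  omega

/-- (GL2) two characters sharing two distinct irreducible constituents. -/
theorem gl_inner_ge_two {Θ₁ Θ₂ χ χ' : G → ℂ}
    (h1 : IsCharacter G Θ₁) (h2 : IsCharacter G Θ₂) (hχ : IsIrrCharacter G χ)
    (hχ' : IsIrrCharacter G χ') (hne : χ ≠ χ')
    (h11 : classInner Θ₁ χ ≠ 0) (h12 : classInner Θ₂ χ ≠ 0)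
    (h21 : classInner Θ₁ χ' ≠ 0) (h22 : classInner Θ₂ χ' ≠ 0) {k : ℕ}
    (hk : classInner Θ₁ Θ₂ = k) : 2 ≤ k := by
  obtain ⟨a, ha⟩ := classInner_char_char_nat h1 (IsIrrCharacter.isCharacter hχ)
  obtain ⟨b, hb⟩ := classInner_char_char_nat h2 (IsIrrCharacter.isCharacter hχ)
  obtain ⟨a', ha'⟩ := classInner_char_char_nat h1 (IsIrrCharacter.isCharacter hχ')
  obtain ⟨b', hb'⟩ := classInner_char_char_nat h2 (IsIrrCharacter.isCharacter hχ')
  have ha0 : a ≠ 0 := by
    rintro rfl
    exact h11 (by rw [ha, Nat.cast_zero])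
  have hb0 : b ≠ 0 := by
    rintro rfl
    exact h12 (by rw [hb, Nat.cast_zero])
  have ha0' : a' ≠ 0 := by
    rintro rfl
    exact h21 (by rw [ha', Nat.cast_zero])
  have hb0' : b' ≠ 0 := by
    rintro rfl
    exact h22 (by rw [hb', Nat.cast_zero])
  -- remove `χ` from `Θ₁`
  have hR := gl_sub_char h1 hχ ha
  have hRχ' : classInner (Θ₁ - (a : ℂ) • χ) χ' = a' := by
    rw [classInner_sub_left, classInner_smul_left, classInner_irr_ne hχ hχ' hne, mul_zero,
      sub_zero, ha']
  obtain ⟨n, hn⟩ := classInner_char_char_nat hR h2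
  have hle : a' * b' ≤ n := gl_inner_ge hR h2 hχ' hRχ' hb' hn
  have hb2 := gl_inner_symm h2 hχ hb
  have e : Θ₁ = (a : ℂ) • χ + (Θ₁ - (a : ℂ) • χ) := by
    rw [add_sub_cancel]
  have hk2 : classInner Θ₁ Θ₂ = ((a * b + n : ℕ) : ℂ) := by
    conv_lhs => rw [e]
    rw [classInner_add_left, classInner_smul_left, hb2, hn]
    push_cast
    ring
  rw [hk] at hk2
  have hkn := Nat.cast_injective (R := ℂ) hk2
  have h1' : 1 ≤ a * b := Nat.one_le_iff_ne_zero.mpr (Nat.mul_ne_zero ha0 hb0)
  have h2' : 1 ≤ a' * b' := Nat.one_le_iff_ne_zero.mpr (Nat.mul_ne_zero ha0' hb0')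
  omega

end Cfsg.Agent.SLBlk
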