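import Mathlib
import Cfsg.Agent.Lead.SLBND

set_option autoImplicit false

/-!
# S4538 / S2440 (p-blocks of `SL_n(q)` in the defining characteristic): common definitions (helper2)

`G = SL (Fin (m+1)) F`, `B = Bs F m` (upper triangular, `Cfsg.Agent.Lead.SLBN`), `U = UT F (m+1)`
(upper unitriangular, `Cfsg.Agent.Helper8.AutSLn`).  Blueprint: `notes/S4538_blueprint_helper2.md`.
-/

namespace Cfsg.Agent.SLBlk

open Matrix Cfsg.Agent.Lead.SLBN Cfsg.Agent.Helper8.AutSLn

variable {F : Type*} [Field F] {m : ℕ}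

/-- `SL_(m+1)(F)`. -/
abbrev SLm (F : Type*) [Field F] (m : ℕ) := SpecialLinearGroup (Fin (m + 1)) F

/-- The fundamental root element `x_i(c) = 1 + c E_{i,i+1}`. -/
def xr (i : Fin m) (c : F) : SLm F m := SpecialLinearGroup.transvection (adj_ne i) c

theorem xr_coe (i : Fin m) (c : F) :
    ((xr i c : SLm F m) : Matrix (Fin (m + 1)) (Fin (m + 1)) F) =
      Matrix.transvection i.castSucc i.succ c := rfl

theorem xr_mem_UT (i : Fin m) (c : F) : xr i c ∈ UT F (m + 1) := by
  rw [mem_UT]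
  refine ⟨?_, fun r => ?_⟩
  · exact tr_mem_Bs (adj_ne i) Fin.castSucc_lt_succ c
  · rw [xr_coe, transvection_apply, one_apply_eq, if_neg, add_zero]
    rintro ⟨h1, h2⟩
    exact adj_ne i (h1.symm.trans h2)

/-- A linear character of `U` is nondegenerate when it is nontrivial on every fundamental root
subgroup. -/
def NonDeg (ψ : ↥(UT F (m + 1)) →* ℂˣ) : Prop :=
  ∀ i : Fin m, ∃ c : F, ψ ⟨xr i c, xr_mem_UT i c⟩ ≠ 1

/-- A linear character of `B` which is trivial on `U` (inflated from the torus). -/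
def TrivOnU (lam : ↥(Bs F m) →* ℂˣ) : Prop :=
  ∀ b : ↥(Bs F m), (b : SLm F m) ∈ UT F (m + 1) → lam b = 1

/-- `χ` vanishes on the nonidentity elements of `U`. -/
def VanU (χ : SLm F m → ℂ) : Prop :=
  ∀ u : SLm F m, u ∈ UT F (m + 1) → u ≠ 1 → χ u = 0

end Cfsg.Agent.SLBlk
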