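import Mathlib
import Cfsg.Agent.SLBlk.H2_Defs
import Cfsg.Agent.SLBlk.H2_GL
import Cfsg.Agent.Helper6.Induced
import Cfsg.Agent.Helper6.Linear
import Cfsg.Agent.Helper6.Cd3A
import Cfsg.Agent.Helper6.CopA
import Cfsg.Agent.Helper6.IrrDegree

set_option autoImplicit false

/-!
# S4538 / S2440, piece P2 (helper2): a character vanishing on `U ∖ 1` has degree `|U|`

`χ` irreducible, vanishing on `U ∖ 1`.  Then `⟨χ|_U, ψ⟩ = χ(1)/|U|` for every linear `ψ`;
some linear character `lam` of `B/U` occurs in `χ|_B`; and the intertwining bound (P1) forces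
`χ(1) = |U|`, `⟨χ|_B, lam⟩ = 1`.
-/

namespace Cfsg.Agent.SLBlk

open Matrix Cfsg Cfsg.Agent.Lead.SLBN Cfsg.Agent.Helper8.AutSLn Cfsg.Agent.Helper6
open scoped ComplexConjugate

variable {F : Type*} [Field F] {m : ℕ}

/-! ### general lemma: a common irreducible constituent -/

/-- Two class functions with nonzero inner product share an irreducible constituent. -/
theorem p2_exists_common {G : Type*} [Group G] [Fintype G] {Θ₁ Θ₂ : G → ℂ}
    (h1 : IsClassFunction G Θ₁) (h : classInner Θ₁ Θ₂ ≠ 0) :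
    ∃ θ : G → ℂ, IsIrrCharacter G θ ∧ classInner Θ₁ θ ≠ 0 ∧ classInner Θ₂ θ ≠ 0 := by
  classical
  haveI : Finite (IrrCharacter G) := irr_finite
  haveI : Fintype (IrrCharacter G) := Fintype.ofFinite _
  by_contra hcon
  push Not at hcon
  apply h
  conv_lhs => rw [classFunction_expansion Θ₁ h1]
  rw [classInner_sum_left]
  apply Finset.sum_eq_zero
  intro θ _
  rw [classInner_smul_left]
  by_cases h0 : classInner Θ₁ (θ : G → ℂ) = 0
  · rw [h0, zero_mul]
  · have := hcon θ θ.2 h0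
    rw [classInner_conj_symm Θ₂ (θ : G → ℂ), this, map_zero, mul_zero]

/-! ### the superdiagonal of a product -/

omit [Field F] in
theorem p2_fin_cases (i : Fin m) (k : Fin (m + 1)) (h1 : k ≠ i.castSucc) (h2 : k ≠ i.succ) :
    k < i.castSucc ∨ i.succ < k := by
  rw [Fin.lt_def, Fin.lt_def]
  rw [Ne, Fin.ext_iff] at h1 h2
  simp only [Fin.val_castSucc, Fin.val_succ] at *
  omega

/-- The superdiagonal entries of a product of upper unitriangular matrices add up. -/
theorem p2_super_mul {A B : Matrix (Fin (m + 1)) (Fin (m + 1)) F} (hA : A.BlockTriangular id)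
    (hB : B.BlockTriangular id) (hA1 : ∀ i, A i i = 1) (hB1 : ∀ i, B i i = 1) (i : Fin m) :
    (A * B) i.castSucc i.succ = A i.castSucc i.succ + B i.castSucc i.succ := by
  rw [Matrix.mul_apply]
  rw [Finset.sum_eq_add i.castSucc i.succ (adj_ne i)]
  · rw [hA1, hB1, one_mul, mul_one, add_comm]
  · intro k _ hk
    rcases p2_fin_cases i k hk.1 hk.2 with h | h
    · have e : A i.castSucc k = 0 := hA h
      rw [e, zero_mul]
    · have e : B k i.succ = 0 := hB h
      rw [e, mul_zero]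
  · intro h
    exact absurd (Finset.mem_univ _) h
  · intro h
    exact absurd (Finset.mem_univ _) h

/-- The sum of the superdiagonal entries, as a homomorphism `U → (F, +)`. -/
def p2_sHom (F : Type*) [Field F] (m : ℕ) : ↥(UT F (m + 1)) →* Multiplicative F where
  toFun u := Multiplicative.ofAdd
    (∑ i : Fin m, ((u : SpecialLinearGroup (Fin (m + 1)) F) : Matrix (Fin (m + 1)) (Fin (m + 1)) F) i.castSucc i.succ)
  map_one' := by
    rw [← ofAdd_zero]
    congr 1
    apply Finset.sum_eq_zero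
    intro i _
    change ((1 : SpecialLinearGroup (Fin (m + 1)) F) : Matrix (Fin (m + 1)) (Fin (m + 1)) F) i.castSucc i.succ = 0
    rw [Matrix.SpecialLinearGroup.coe_one, one_apply_ne (adj_ne i)]
  map_mul' := by
    intro u v
    rw [← ofAdd_add, ← Finset.sum_add_distrib]
    congr 1
    apply Finset.sum_congr rfl
    intro i _
    rw [Subgroup.coe_mul, Matrix.SpecialLinearGroup.coe_mul]
    exact p2_super_mul (mem_UT.mp u.2).1 (mem_UT.mp v.2).1 (mem_UT.mp u.2).2 (mem_UT.mp v.2).2 i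

theorem p2_sHom_xr (i : Fin m) (c : F) :
    p2_sHom F m ⟨xr i c, xr_mem_UT i c⟩ = Multiplicative.ofAdd c := by
  change Multiplicative.ofAdd _ = _
  congr 1
  rw [Finset.sum_eq_single i]
  · change ((xr i c : SpecialLinearGroup (Fin (m + 1)) F) : Matrix (Fin (m + 1)) (Fin (m + 1)) F) i.castSucc i.succ = c
    rw [xr_coe, transvection_apply, one_apply_ne (adj_ne i), if_pos ⟨rfl, rfl⟩, zero_add]
  · intro j _ hj
    change ((xr i c : SpecialLinearGroup (Fin (m + 1)) F) : Matrix (Fin (m + 1)) (Fin (m + 1)) F) j.castSucc j.succ = 0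
    rw [xr_coe, transvection_apply, one_apply_ne (adj_ne j), if_neg, add_zero]
    rintro ⟨h1, -⟩
    exact hj (Fin.castSucc_injective _ h1)
  · intro h
    exact absurd (Finset.mem_univ _) h

/-- (P2a) a nondegenerate character exists. -/
theorem p2_exists_nondeg [Finite F] : ∃ ψ : ↥(UT F (m + 1)) →* ℂˣ, NonDeg ψ := by
  obtain ⟨ε, hε⟩ := (AddChar.exists_apply_ne_zero (α := F) (a := (1 : F))).mpr one_ne_zero
  refine ⟨(ε.toMonoidHom.toHomUnits).comp (p2_sHom F m), ?_⟩
  intro i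
  refine ⟨1, ?_⟩
  rw [MonoidHom.comp_apply, p2_sHom_xr]
  intro h
  apply hε
  have := congrArg (fun z : ℂˣ => (z : ℂ)) h
  simpa using this

/-! ### multiplicities in `χ|_U` -/

section fin

variable [Fintype (SLm F m)] [Fintype ↥(Bs F m)] [Fintype ↥(UT F (m + 1))]

omit [Fintype (SLm F m)] [Fintype ↥(Bs F m)] in
/-- (P2c) the multiplicity of any linear character `ψ` of `U` in `χ|_U` is `χ(1)/|U|`. -/
theorem p2_inner_U (χ : SLm F m → ℂ) (hvan : VanU χ) (ψ : ↥(UT F (m + 1)) →* ℂˣ) :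
    classInner (fun u : ↥(UT F (m + 1)) => χ u) (fun u => ((ψ u : ℂˣ) : ℂ)) =
      χ 1 / (Nat.card ↥(UT F (m + 1)) : ℂ) := by
  rw [classInner_def, Finset.sum_eq_single (1 : ↥(UT F (m + 1)))]
  · rw [map_one, Units.val_one, map_one, mul_one, Subgroup.coe_one, div_eq_inv_mul]
  · intro u _ hu
    rw [hvan u u.2 (fun h => hu (Subtype.ext h)), zero_mul]
  · intro h
    exact absurd (Finset.mem_univ _) h

/-- The diagonal of an element of `B`, as a monoid homomorphism. -/
def p2_dHom (F : Type*) [Field F] (m : ℕ) : ↥(Bs F m) →* (Fin (m + 1) → F) where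
  toFun b := fun i => ((b : SpecialLinearGroup (Fin (m + 1)) F) : Matrix (Fin (m + 1)) (Fin (m + 1)) F) i i
  map_one' := by
    funext i
    rw [Subgroup.coe_one, Matrix.SpecialLinearGroup.coe_one, one_apply_eq]
    rfl
  map_mul' := by
    intro a b
    funext i
    rw [Subgroup.coe_mul, Matrix.SpecialLinearGroup.coe_mul]
    exact diag_mul_of_upper (mem_Bs.mp a.2) (mem_Bs.mp b.2) i

omit [Fintype (SLm F m)] [Fintype ↥(Bs F m)] [Fintype ↥(UT F (m + 1))] in
theorem p2_mem_ker_dHom (b : ↥(Bs F m)) :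
    b ∈ (p2_dHom F m).ker ↔ (b : SLm F m) ∈ UT F (m + 1) := by
  rw [MonoidHom.mem_ker, mem_UT]
  constructor
  · intro h
    exact ⟨mem_Bs.mp b.2, fun i => congrFun h i⟩
  · rintro ⟨-, h⟩
    funext i
    exact h i

omit [Fintype (SLm F m)] [Fintype ↥(Bs F m)] [Fintype ↥(UT F (m + 1))] in
theorem p2_commutator_le : commutator ↥(Bs F m) ≤ (p2_dHom F m).ker := by
  rw [commutator_def, Subgroup.commutator_le]
  intro a _ b _
  rw [MonoidHom.mem_ker, commutatorElement_def, map_mul, map_mul, map_mul]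
  have h1 : p2_dHom F m a * p2_dHom F m a⁻¹ = 1 := by rw [← map_mul, mul_inv_cancel, map_one]
  have h2 : p2_dHom F m b * p2_dHom F m b⁻¹ = 1 := by rw [← map_mul, mul_inv_cancel, map_one]
  calc p2_dHom F m a * p2_dHom F m b * p2_dHom F m a⁻¹ * p2_dHom F m b⁻¹
      = (p2_dHom F m a * p2_dHom F m a⁻¹) * (p2_dHom F m b * p2_dHom F m b⁻¹) := by
        rw [mul_assoc (p2_dHom F m a * p2_dHom F m b), mul_mul_mul_comm]
    _ = 1 := by rw [h1, h2, mul_one]

omit [Fintype ↥(UT F (m + 1))] in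
/-- (P2b) some linear character of `B/U` occurs in `χ|_B`. -/
theorem p2_exists_lam (χ : SLm F m → ℂ) (hχ : IsIrrCharacter (SLm F m) χ) (hvan : VanU χ) :
    ∃ lam : ↥(Bs F m) →* ℂˣ, TrivOnU lam ∧
      classInner (fun b : ↥(Bs F m) => χ b) (fun b => ((lam b : ℂˣ) : ℂ)) ≠ 0 := by
  classical
  set K : Subgroup ↥(Bs F m) := (p2_dHom F m).ker with hK
  haveI : Fintype ↥K := Fintype.ofFinite _
  have hχB : IsCharacter ↥(Bs F m) (fun b : ↥(Bs F m) => χ b) :=
    IsCharacter.restrict (Bs F m) (IsIrrCharacter.isCharacter hχ)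
  have hχ1 : χ 1 ≠ 0 := by
    exact IsIrrCharacter.apply_one_ne_zero hχ
  -- `⟨1_K^B, χ|_B⟩ ≠ 0`
  have hfrob : classInner (indFun K (fun _ : ↥K => (1 : ℂ))) (fun b : ↥(Bs F m) => χ b) =
      classInner (fun _ : ↥K => (1 : ℂ)) (fun k : ↥K => χ ((k : ↥(Bs F m)) : SLm F m)) :=
    frobenius_reciprocity K _ _ (IsCharacter.isClassFunction hχB)
  have hval : classInner (fun _ : ↥K => (1 : ℂ)) (fun k : ↥K => χ ((k : ↥(Bs F m)) : SLm F m)) =
      (Nat.card ↥K : ℂ)⁻¹ * conj (χ 1) := by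
    rw [classInner_def, Finset.sum_eq_single (1 : ↥K)]
    · rw [one_mul, Subgroup.coe_one, Subgroup.coe_one]
    · intro k _ hk
      have hkU : ((k : ↥(Bs F m)) : SLm F m) ∈ UT F (m + 1) := (p2_mem_ker_dHom _).mp k.2
      have hk1 : ((k : ↥(Bs F m)) : SLm F m) ≠ 1 := by
        intro h
        apply hk
        apply Subtype.ext
        apply Subtype.ext
        exact h
      rw [hvan _ hkU hk1, map_zero, mul_zero]
    · intro h
      exact absurd (Finset.mem_univ _) h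
  have hne : classInner (indFun K (fun _ : ↥K => (1 : ℂ))) (fun b : ↥(Bs F m) => χ b) ≠ 0 := by
    rw [hfrob, hval]
    apply mul_ne_zero
    · apply inv_ne_zero
      exact_mod_cast (Nat.card_pos (α := ↥K)).ne'
    · exact (map_ne_zero _).mpr hχ1
  obtain ⟨θ, hθ, h1, h2⟩ := p2_exists_common (indFun_isClassFunction K _) hne
  -- `K ≤ ker θ`
  have hθK : classInner (fun k : ↥K => θ k) (fun _ => (1 : ℂ)) ≠ 0 := by
    rw [frobenius_reciprocity K _ _ (IsCharacter.isClassFunction (IsIrrCharacter.isCharacter hθ))]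
      at h1
    rw [classInner_conj_symm]
    exact (map_ne_zero _).mpr h1
  have hker := le_ker_of_over_trivial K θ hθ hθK
  have hdeg : θ 1 = 1 := Cfsg.Agent.Helper6.Cd3.degree_one_of_commutator_le_ker hθ
    (fun g hg => hker g (p2_commutator_le hg))
  obtain ⟨lam, hlam⟩ := exists_hom_of_irr_degree_one hθ hdeg
  refine ⟨lam, ?_, ?_⟩
  · intro b hb
    have h3 := hker b ((p2_mem_ker_dHom b).mpr hb)
    rw [hdeg, hlam] at h3
    exact Units.ext h3
  · rw [← hlam]
    exact h2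

/-- (P2) degree `|U|`, and the line `χ^U` carries a linear character `lam` of `B`; relative to
the intertwining bound (P1), given as a hypothesis. -/
theorem p2_main_of [Finite F]
    (hP1 : ∀ (lam : ↥(Bs F m) →* ℂˣ), TrivOnU lam → ∀ ψ : ↥(UT F (m + 1)) →* ℂˣ, NonDeg ψ →
      ∀ k : ℕ, classInner (indFun (Bs F m) (fun b => ((lam b : ℂˣ) : ℂ)))
        (indFun (UT F (m + 1)) (fun u => ((ψ u : ℂˣ) : ℂ))) = k → k ≤ 1)
    (χ : SLm F m → ℂ) (hχ : IsIrrCharacter (SLm F m) χ) (hvan : VanU χ) :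
    χ 1 = (Nat.card ↥(UT F (m + 1)) : ℂ) ∧
    ∃ lam : ↥(Bs F m) →* ℂˣ, TrivOnU lam ∧
      classInner (fun b : ↥(Bs F m) => χ b) (fun b => ((lam b : ℂˣ) : ℂ)) = 1 := by
  classical
  obtain ⟨lam, hlamU, hlam⟩ := p2_exists_lam χ hχ hvan
  obtain ⟨ψ, hψ⟩ := p2_exists_nondeg (F := F) (m := m)
  have hχc := IsIrrCharacter.isCharacter hχ
  have hcf := IsCharacter.isClassFunction hχc
  have hL : IsCharacter (SLm F m) (indFun (Bs F m) (fun b => ((lam b : ℂˣ) : ℂ))) :=
    isCharacter_indFun _ _ (IsIrrCharacter.isCharacter (isIrrCharacter_of_hom lam))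
  have hΨ : IsCharacter (SLm F m) (indFun (UT F (m + 1)) (fun u => ((ψ u : ℂˣ) : ℂ))) :=
    isCharacter_indFun _ _ (IsIrrCharacter.isCharacter (isIrrCharacter_of_hom ψ))
  obtain ⟨a, ha⟩ := classInner_char_char_nat hL hχc
  obtain ⟨μ, hμ⟩ := classInner_char_char_nat hΨ hχc
  obtain ⟨k, hk⟩ := classInner_char_char_nat hL hΨ
  have hk1 := hP1 lam hlamU ψ hψ k hk
  have hle := gl_inner_ge hL hΨ hχ ha hμ hk
  -- `a ≠ 0`
  have ha' : classInner (fun b : ↥(Bs F m) => χ b) (fun b => ((lam b : ℂˣ) : ℂ)) = a := by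
    rw [classInner_conj_symm, ← frobenius_reciprocity (Bs F m) _ χ hcf, ha, Complex.conj_natCast]
  have ha0 : a ≠ 0 := by
    rintro rfl
    exact hlam (by rw [ha', Nat.cast_zero])
  -- `μ = χ(1)/|U| ≠ 0`
  have hμ' : χ 1 / (Nat.card ↥(UT F (m + 1)) : ℂ) = μ := by
    rw [← p2_inner_U χ hvan ψ, classInner_conj_symm,
      ← frobenius_reciprocity (UT F (m + 1)) _ χ hcf, hμ, Complex.conj_natCast]
  have hU0 : (Nat.card ↥(UT F (m + 1)) : ℂ) ≠ 0 := by
    exact_mod_cast (Nat.card_pos (α := ↥(UT F (m + 1)))).ne'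
  have hχ1 : χ 1 ≠ 0 := by
    exact IsIrrCharacter.apply_one_ne_zero hχ
  have hμ0 : μ ≠ 0 := by
    rintro rfl
    rw [Nat.cast_zero, div_eq_zero_iff] at hμ'
    rcases hμ' with h | h
    · exact hχ1 h
    · exact hU0 h
  have ha1 : a = 1 := by
    have h1 : 1 ≤ a := Nat.one_le_iff_ne_zero.mpr ha0
    have h2 : 1 ≤ μ := Nat.one_le_iff_ne_zero.mpr hμ0
    nlinarith
  have hμ1 : μ = 1 := by
    have h1 : 1 ≤ a := Nat.one_le_iff_ne_zero.mpr ha0
    have h2 : 1 ≤ μ := Nat.one_le_iff_ne_zero.mpr hμ0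
    nlinarith
  refine ⟨?_, lam, hlamU, ?_⟩
  · rw [hμ1, Nat.cast_one, div_eq_one_iff_eq hU0] at hμ'
    exact hμ'
  · rw [ha', ha1, Nat.cast_one]

end fin

end Cfsg.Agent.SLBlk
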