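import Mathlib
import Cfsg.Agent.SLBlk.H2_Defs
import Cfsg.Agent.SLBlk.H2_P2
import Cfsg.Agent.Helper6.Invariants

set_option autoImplicit false

/-!
# S4538 / S2440, piece P3b (helper2): the `B`-eigenvector spanning `V^U`

`χ` irreducible, vanishing on `U ∖ 1`, of degree `|U|`, and `lam` a linear character of `B/U`
occurring in `χ|_B`.  Then a representation `ρ` affording `χ` has a vector `y ≠ 0` with
`ρ(b) y = lam(b) y` for `b ∈ B`, and every `U`-fixed vector is a multiple of `y`.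
-/

namespace Cfsg.Agent.SLBlk

open Matrix Cfsg Cfsg.Agent.Lead.SLBN Cfsg.Agent.Helper8.AutSLn Cfsg.Agent.Helper6 Module
open scoped ComplexConjugate

variable {F : Type*} [Field F] {m : ℕ}

/-- The values of a linear character of a finite group have norm one. -/
theorem p3b_conj_hom {B : Type*} [Group B] [Finite B] (lam : B →* ℂˣ) (b : B) :
    conj ((lam b : ℂˣ) : ℂ) = (((lam b)⁻¹ : ℂˣ) : ℂ) := by
  have hpow : ((lam b : ℂˣ) : ℂ) ^ Nat.card B = 1 := by
    rw [← Units.val_pow_eq_pow_val, ← map_pow, pow_card_eq_one', map_one, Units.val_one]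
  have hnorm : ‖((lam b : ℂˣ) : ℂ)‖ = 1 :=
    Complex.norm_eq_one_of_pow_eq_one hpow Nat.card_pos.ne'
  rw [Units.val_inv_eq_inv_val, Complex.inv_eq_conj hnorm]

/-- The twist `b ↦ lam(b)⁻¹ ρ(b)` of a representation by a linear character. -/
noncomputable def p3b_twist {B : Type*} [Group B] {V : Type*} [AddCommGroup V] [Module ℂ V]
    (σ : Representation ℂ B V) (lam : B →* ℂˣ) : Representation ℂ B V where
  toFun b := (((lam b)⁻¹ : ℂˣ) : ℂ) • σ b
  map_one' := by
    rw [map_one, inv_one, Units.val_one, one_smul, map_one]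
  map_mul' := by
    intro a b
    rw [map_mul, map_mul, mul_inv, Units.val_mul, smul_mul_smul_comm]

theorem p3b_twist_apply {B : Type*} [Group B] {V : Type*} [AddCommGroup V] [Module ℂ V]
    (σ : Representation ℂ B V) (lam : B →* ℂˣ) (b : B) (v : V) :
    p3b_twist σ lam b v = (((lam b)⁻¹ : ℂˣ) : ℂ) • σ b v := rfl

theorem p3b_twist_character {B : Type*} [Group B] {V : Type*} [AddCommGroup V] [Module ℂ V]
    (σ : Representation ℂ B V) (lam : B →* ℂˣ) (b : B) :
    (p3b_twist σ lam).character b = (((lam b)⁻¹ : ℂˣ) : ℂ) * σ.character b := by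
  unfold Representation.character
  change LinearMap.trace ℂ V ((((lam b)⁻¹ : ℂˣ) : ℂ) • σ b) = _
  rw [map_smul, smul_eq_mul]

variable [Fintype (SLm F m)] [Fintype ↥(Bs F m)] [Fintype ↥(UT F (m + 1))]

omit [Fintype (SLm F m)] in
/-- (P3b) the eigenvector. -/
theorem p3b_exists_vec (χ : SLm F m → ℂ) (hχ : IsIrrCharacter (SLm F m) χ) (hvan : VanU χ)
    (h1 : χ 1 = (Nat.card ↥(UT F (m + 1)) : ℂ))
    (lam : ↥(Bs F m) →* ℂˣ) (hlam : TrivOnU lam)
    (hin : classInner (fun b : ↥(Bs F m) => χ b) (fun b => ((lam b : ℂˣ) : ℂ)) ≠ 0) :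
    ∃ (d : ℕ) (ρ : Representation ℂ (SLm F m) (Fin d → ℂ)), ρ.IsIrreducible ∧ ρ.character = χ ∧
      ∃ y : Fin d → ℂ, y ≠ 0 ∧
        (∀ b : ↥(Bs F m), ρ (b : SLm F m) y = ((lam b : ℂˣ) : ℂ) • y) ∧
        ∀ z : Fin d → ℂ, (∀ u : SLm F m, u ∈ UT F (m + 1) → ρ u z = z) → ∃ c : ℂ, z = c • y := by
  classical
  obtain ⟨d, ρ, hirr, hρ⟩ := hχ
  refine ⟨d, ρ, hirr, hρ, ?_⟩
  -- the twisted representation of `B`
  set σ : Representation ℂ ↥(Bs F m) (Fin d → ℂ) := ρ.comp (Bs F m).subtype with hσ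
  set τ := p3b_twist σ lam with hτ
  have hτchar : classInner τ.character (fun _ => (1 : ℂ)) =
      classInner (fun b : ↥(Bs F m) => χ b) (fun b => ((lam b : ℂˣ) : ℂ)) := by
    rw [classInner_def, classInner_def]
    congr 1
    apply Finset.sum_congr rfl
    intro b _
    rw [p3b_twist_character, map_one, mul_one, p3b_conj_hom lam b, ← hρ, mul_comm]
    rfl
  have hfr : (finrank ℂ (Representation.invariants τ) : ℂ) ≠ 0 := by
    rw [← classInner_one_eq_finrank_invariants, hτchar]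
    exact hin
  have hpos : 0 < finrank ℂ (Representation.invariants τ) := by
    rcases Nat.eq_zero_or_pos (finrank ℂ (Representation.invariants τ)) with h | h
    · rw [h, Nat.cast_zero] at hfr
      exact absurd rfl hfr
    · exact h
  obtain ⟨⟨y, hyinv⟩, hy0⟩ := (finrank_pos_iff_exists_ne_zero).mp hpos
  have hy0' : y ≠ 0 := by
    intro h
    apply hy0
    exact Subtype.ext h
  have hyB : ∀ b : ↥(Bs F m), ρ (b : SLm F m) y = ((lam b : ℂˣ) : ℂ) • y := by
    intro b
    have h2 : τ b y = y := hyinv b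
    rw [hτ, p3b_twist_apply] at h2
    have h3 : σ b y = ρ (b : SLm F m) y := rfl
    rw [h3] at h2
    calc ρ (b : SLm F m) y
        = ((lam b : ℂˣ) : ℂ) • ((((lam b)⁻¹ : ℂˣ) : ℂ) • ρ (b : SLm F m) y) := by
          rw [smul_smul, ← Units.val_mul, mul_inv_cancel, Units.val_one, one_smul]
      _ = ((lam b : ℂˣ) : ℂ) • y := by rw [h2]
  refine ⟨y, hy0', hyB, ?_⟩
  -- the invariants of `U`
  set ρU : Representation ℂ ↥(UT F (m + 1)) (Fin d → ℂ) := ρ.comp (UT F (m + 1)).subtype with hρU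
  have hUchar : classInner ρU.character (fun _ => (1 : ℂ)) = 1 := by
    have h2 := p2_inner_U χ hvan (1 : ↥(UT F (m + 1)) →* ℂˣ)
    have hU0 : (Nat.card ↥(UT F (m + 1)) : ℂ) ≠ 0 := by
      exact_mod_cast (Nat.card_pos (α := ↥(UT F (m + 1)))).ne'
    rw [h1, div_self hU0] at h2
    have h3 : classInner ρU.character (fun _ => (1 : ℂ)) =
        classInner (fun u : ↥(UT F (m + 1)) => χ u)
          (fun u => (((1 : ↥(UT F (m + 1)) →* ℂˣ) u : ℂˣ) : ℂ)) := by
      rw [← hρ]
      rfl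
    rw [h3, h2]
  have hfrU : finrank ℂ (Representation.invariants ρU) = 1 := by
    have h2 := classInner_one_eq_finrank_invariants ρU
    rw [hUchar] at h2
    exact_mod_cast h2.symm
  have hyU : y ∈ Representation.invariants ρU := by
    intro u
    have hb : (u : SLm F m) ∈ Bs F m := UT_le_Bs u.2
    have h2 := hyB ⟨(u : SLm F m), hb⟩
    rw [hlam ⟨(u : SLm F m), hb⟩ u.2, Units.val_one, one_smul] at h2
    exact h2
  intro z hz
  have hzU : z ∈ Representation.invariants ρU := fun u => hz (u : SLm F m) u.2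
  have hspan := (finrank_eq_one_iff_of_nonzero' (⟨y, hyU⟩ : Representation.invariants ρU)
    (by
      intro h
      apply hy0'
      exact congrArg Subtype.val h)).mp hfrU ⟨z, hzU⟩
  obtain ⟨c, hc⟩ := hspan
  refine ⟨c, ?_⟩
  have := congrArg Subtype.val hc
  exact this.symm

end Cfsg.Agent.SLBlk
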