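import Mathlib
import Cfsg.Prelude.Def_Solvable

set_option autoImplicit false

/-!
# Radical `p`-subgroups absorb normalised `p`-subgroups (lead)

If `D = O_p(N_G(D))` and `Q` is a `p`-subgroup normalised by `D` and by `N_G(D)`, then `Q ≤ D`.
-/

namespace Cfsg.Agent.SLBlk

open Subgroup

variable {G : Type*} [Group G]

/-- A `p`-subgroup of `N_G(D)` normalised by `N_G(D)` lies in `O_p(N_G(D))`. -/
theorem l_inf_le_core (p : ℕ) (D Q : Subgroup G) (hQp : IsPGroup p Q)
    (hNQ : normalizer (D : Set G) ≤ normalizer (Q : Set G)) :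
    Q ⊓ normalizer (D : Set G) ≤
      (Cfsg.pCore p ↥(normalizer (D : Set G))).map (normalizer (D : Set G)).subtype := by
  rw [← subgroupOf_map_subtype]
  apply Subgroup.map_mono
  unfold Cfsg.pCore
  apply le_sSup
  refine ⟨⟨?_⟩, ?_⟩
  · intro x hx g
    rw [mem_subgroupOf] at hx ⊢
    have hg : (g : G) ∈ normalizer (Q : Set G) := hNQ g.2
    have := (mem_normalizer_iff.mp hg (x : G)).mp hx
    simpa using this
  · exact hQp.comap_subtype

/-- If `D = O_p(N_G(D))` and `Q` is a `p`-subgroup normalised by `D` and by `N_G(D)`, then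
`Q ≤ D`. -/
theorem l_le_of_radical [Finite G] (p : ℕ) [Fact p.Prime] (D Q : Subgroup G)
    (hDp : IsPGroup p D) (hQp : IsPGroup p Q)
    (hrad : (Cfsg.pCore p ↥(normalizer (D : Set G))).map (normalizer (D : Set G)).subtype = D)
    (hDQ : D ≤ normalizer (Q : Set G))
    (hNQ : normalizer (D : Set G) ≤ normalizer (Q : Set G)) : Q ≤ D := by
  have h1 : Q ⊓ normalizer (D : Set G) ≤ D := by
    have := l_inf_le_core p D Q hQp hNQ
    rwa [hrad] at this
  by_contra hcon
  have hR : IsPGroup p ↥(D ⊔ Q) := hDp.to_sup_of_normal_right' hQp hDQ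
  haveI : Group.IsNilpotent ↥(D ⊔ Q) := hR.isNilpotent
  have hlt : D.subgroupOf (D ⊔ Q) < ⊤ := by
    rw [lt_top_iff_ne_top, Ne, subgroupOf_eq_top]
    intro h
    exact hcon (le_trans le_sup_right h)
  have hnc := normalizerCondition_of_isNilpotent (G := ↥(D ⊔ Q)) (D.subgroupOf (D ⊔ Q)) hlt
  obtain ⟨y, hyN, hyD⟩ := SetLike.exists_of_lt hnc
  have hy : (y : G) ∈ ((D ⊔ Q : Subgroup G) : Set G) := y.2
  rw [coe_mul_of_left_le_normalizer_right D Q hDQ] at hy
  obtain ⟨d, hd, u, hu, hdu⟩ := hy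
  have hd' : d ∈ D := hd
  have hu' : u ∈ Q := hu
  -- `y` normalises `D` in `G`
  have hyG : (y : G) ∈ normalizer (D : Set G) := by
    rw [mem_normalizer_iff]
    intro g
    constructor
    · intro hg
      have := (mem_normalizer_iff.mp hyN ⟨g, (le_sup_left : D ≤ D ⊔ Q) hg⟩).mp
        (by rw [mem_subgroupOf]; exact hg)
      rw [mem_subgroupOf] at this
      simpa using this
    · intro hg
      have hgR : g ∈ D ⊔ Q := by
        have h2 : (y : G) * g * (y : G)⁻¹ ∈ D ⊔ Q := (le_sup_left : D ≤ D ⊔ Q) hg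
        have h3 := (D ⊔ Q).mul_mem ((D ⊔ Q).mul_mem ((D ⊔ Q).inv_mem y.2) h2) y.2
        have e : (y : G)⁻¹ * ((y : G) * g * (y : G)⁻¹) * (y : G) = g := by group
        rwa [e] at h3
      have := (mem_normalizer_iff.mp hyN ⟨g, hgR⟩).mpr
        (by rw [mem_subgroupOf]; simpa using hg)
      rw [mem_subgroupOf] at this
      exact this
  have hdN : d ∈ normalizer (D : Set G) := le_normalizer hd'
  have huN : u ∈ normalizer (D : Set G) := by
    have e : u = d⁻¹ * (y : G) := by rw [← hdu]; group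
    rw [e]
    exact (normalizer (D : Set G)).mul_mem ((normalizer (D : Set G)).inv_mem hdN) hyG
  have huD : u ∈ D := h1 ⟨hu', huN⟩
  apply hyD
  rw [mem_subgroupOf, ← hdu]
  exact D.mul_mem hd' huD

end Cfsg.Agent.SLBlk
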