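import Mathlib
import Cfsg.Agent.SLBlk.L_RadA
import Cfsg.Agent.MinIdx.H8_Tv
import Cfsg.Agent.Helper4.PGroupFixedVector

set_option autoImplicit false

/-!
# Radical `p`-subgroups of `SL_n(F)` in characteristic `p` (lead)

`l_UW W`: the elements acting trivially on `W` and on `V/W`.  Its centraliser consists of the
products of a scalar and a unipotent element, so its `p`-regular elements are central.
-/

namespace Cfsg.Agent.SLBlk

open Matrix Subgroup
open Cfsg.Agent.MinIdx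

variable {F : Type*} [Field F] {n : ℕ}

theorem l_coe_mul (a b : SpecialLinearGroup (Fin n) F) :
    ((a * b : SpecialLinearGroup (Fin n) F) : Matrix (Fin n) (Fin n) F) =
      (a : Matrix (Fin n) (Fin n) F) * (b : Matrix (Fin n) (Fin n) F) := rfl

theorem l_coe_one :
    ((1 : SpecialLinearGroup (Fin n) F) : Matrix (Fin n) (Fin n) F) = 1 := rfl

theorem l_inv_mulVec (g : SpecialLinearGroup (Fin n) F) (x : Fin n → F) :
    ((g⁻¹ : SpecialLinearGroup (Fin n) F) : Matrix (Fin n) (Fin n) F) *ᵥ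
      ((g : Matrix (Fin n) (Fin n) F) *ᵥ x) = x := by
  rw [Matrix.mulVec_mulVec, ← l_coe_mul, inv_mul_cancel, l_coe_one]
  exact Matrix.one_mulVec _

theorem l_mulVec_inv (g : SpecialLinearGroup (Fin n) F) (x : Fin n → F) :
    (g : Matrix (Fin n) (Fin n) F) *ᵥ
      (((g⁻¹ : SpecialLinearGroup (Fin n) F) : Matrix (Fin n) (Fin n) F) *ᵥ x) = x := by
  rw [Matrix.mulVec_mulVec, ← l_coe_mul, mul_inv_cancel, l_coe_one]
  exact Matrix.one_mulVec _

theorem l_mat_ext {A B : Matrix (Fin n) (Fin n) F} (h : ∀ v : Fin n → F, A *ᵥ v = B *ᵥ v) :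
    A = B := by
  apply Matrix.toLin'.injective
  apply LinearMap.ext
  intro v
  rw [Matrix.toLin'_apply, Matrix.toLin'_apply]
  exact h v

/-- The fixed space of a subgroup on the natural module. -/
def l_fix (D : Subgroup (SpecialLinearGroup (Fin n) F)) : Submodule F (Fin n → F) where
  carrier := {v | ∀ d ∈ D, (d : Matrix (Fin n) (Fin n) F) *ᵥ v = v}
  add_mem' := by
    intro a b ha hb d hd
    rw [Matrix.mulVec_add, ha d hd, hb d hd]
  zero_mem' := by
    intro d _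
    exact Matrix.mulVec_zero _
  smul_mem' := by
    intro c v hv d hd
    rw [Matrix.mulVec_smul, hv d hd]

theorem l_mem_fix (D : Subgroup (SpecialLinearGroup (Fin n) F)) (v : Fin n → F) :
    v ∈ l_fix D ↔ ∀ d ∈ D, (d : Matrix (Fin n) (Fin n) F) *ᵥ v = v := Iff.rfl

/-- The elements acting trivially on `W` and on `V/W`. -/
def l_UW (W : Submodule F (Fin n → F)) : Subgroup (SpecialLinearGroup (Fin n) F) where
  carrier := {g | (∀ v ∈ W, (g : Matrix (Fin n) (Fin n) F) *ᵥ v = v) ∧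
    ∀ v, (g : Matrix (Fin n) (Fin n) F) *ᵥ v - v ∈ W}
  mul_mem' := by
    rintro a b ⟨ha1, ha2⟩ ⟨hb1, hb2⟩
    refine ⟨fun v hv => ?_, fun v => ?_⟩
    · rw [l_coe_mul, ← Matrix.mulVec_mulVec, hb1 v hv, ha1 v hv]
    · rw [l_coe_mul, ← Matrix.mulVec_mulVec]
      have e : (a : Matrix (Fin n) (Fin n) F) *ᵥ ((b : Matrix (Fin n) (Fin n) F) *ᵥ v) - v =
          ((a : Matrix (Fin n) (Fin n) F) *ᵥ ((b : Matrix (Fin n) (Fin n) F) *ᵥ v) -
            (b : Matrix (Fin n) (Fin n) F) *ᵥ v) + ((b : Matrix (Fin n) (Fin n) F) *ᵥ v - v) := by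
        abel
      rw [e]
      exact W.add_mem (ha2 _) (hb2 _)
  one_mem' := by
    refine ⟨fun v _ => ?_, fun v => ?_⟩
    · rw [l_coe_one, Matrix.one_mulVec]
    · rw [l_coe_one, Matrix.one_mulVec, sub_self]
      exact W.zero_mem
  inv_mem' := by
    rintro a ⟨ha1, ha2⟩
    refine ⟨fun v hv => ?_, fun v => ?_⟩
    · conv_lhs => rw [← ha1 v hv]
      exact l_inv_mulVec a v
    · have h := ha2 (((a⁻¹ : SpecialLinearGroup (Fin n) F) : Matrix (Fin n) (Fin n) F) *ᵥ v)
      rw [l_mulVec_inv] at h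
      have e : ((a⁻¹ : SpecialLinearGroup (Fin n) F) : Matrix (Fin n) (Fin n) F) *ᵥ v - v =
          -(v - ((a⁻¹ : SpecialLinearGroup (Fin n) F) : Matrix (Fin n) (Fin n) F) *ᵥ v) := by abel
      rw [e]
      exact W.neg_mem h

theorem l_mem_UW (W : Submodule F (Fin n → F)) (g : SpecialLinearGroup (Fin n) F) :
    g ∈ l_UW W ↔ (∀ v ∈ W, (g : Matrix (Fin n) (Fin n) F) *ᵥ v = v) ∧
      ∀ v, (g : Matrix (Fin n) (Fin n) F) *ᵥ v - v ∈ W := Iff.rfl

/-- An element stabilising `W` conjugates `l_UW W` into itself. -/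
theorem l_conj_mem_UW (W : Submodule F (Fin n → F)) (x : SpecialLinearGroup (Fin n) F)
    (hx : ∀ v, (x : Matrix (Fin n) (Fin n) F) *ᵥ v ∈ W ↔ v ∈ W)
    (g : SpecialLinearGroup (Fin n) F) (hg : g ∈ l_UW W) : x * g * x⁻¹ ∈ l_UW W := by
  obtain ⟨hg1, hg2⟩ := hg
  have hxi : ∀ v, ((x⁻¹ : SpecialLinearGroup (Fin n) F) : Matrix (Fin n) (Fin n) F) *ᵥ v ∈ W ↔
      v ∈ W := by
    intro v
    rw [← hx (((x⁻¹ : SpecialLinearGroup (Fin n) F) : Matrix (Fin n) (Fin n) F) *ᵥ v), l_mulVec_inv]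
  refine ⟨fun v hv => ?_, fun v => ?_⟩
  · rw [l_coe_mul, l_coe_mul, ← Matrix.mulVec_mulVec, ← Matrix.mulVec_mulVec,
      hg1 _ ((hxi v).mpr hv), l_mulVec_inv]
  · rw [l_coe_mul, l_coe_mul, ← Matrix.mulVec_mulVec, ← Matrix.mulVec_mulVec]
    have e : (x : Matrix (Fin n) (Fin n) F) *ᵥ ((g : Matrix (Fin n) (Fin n) F) *ᵥ
        (((x⁻¹ : SpecialLinearGroup (Fin n) F) : Matrix (Fin n) (Fin n) F) *ᵥ v)) - v =
        (x : Matrix (Fin n) (Fin n) F) *ᵥ ((g : Matrix (Fin n) (Fin n) F) *ᵥ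
          (((x⁻¹ : SpecialLinearGroup (Fin n) F) : Matrix (Fin n) (Fin n) F) *ᵥ v) -
          ((x⁻¹ : SpecialLinearGroup (Fin n) F) : Matrix (Fin n) (Fin n) F) *ᵥ v) := by
      rw [Matrix.mulVec_sub, l_mulVec_inv]
    rw [e]
    exact (hx _).mpr (hg2 _)

/-- An element stabilising `W` normalises `l_UW W`. -/
theorem l_mem_normalizer_UW (W : Submodule F (Fin n → F)) (x : SpecialLinearGroup (Fin n) F)
    (hx : ∀ v, (x : Matrix (Fin n) (Fin n) F) *ᵥ v ∈ W ↔ v ∈ W) :
    x ∈ normalizer (l_UW W : Set (SpecialLinearGroup (Fin n) F)) := by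
  have hxi : ∀ v, ((x⁻¹ : SpecialLinearGroup (Fin n) F) : Matrix (Fin n) (Fin n) F) *ᵥ v ∈ W ↔
      v ∈ W := by
    intro v
    rw [← hx (((x⁻¹ : SpecialLinearGroup (Fin n) F) : Matrix (Fin n) (Fin n) F) *ᵥ v), l_mulVec_inv]
  rw [mem_normalizer_iff]
  intro g
  constructor
  · exact l_conj_mem_UW W x hx g
  · intro h
    have := l_conj_mem_UW W x⁻¹ hxi _ h
    have e : x⁻¹ * (x * g * x⁻¹) * x⁻¹⁻¹ = g := by group
    rwa [e] at this

/-- The normaliser of `D` stabilises the fixed space of `D`. -/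
theorem l_normalizer_stab (D : Subgroup (SpecialLinearGroup (Fin n) F))
    (x : SpecialLinearGroup (Fin n) F)
    (hx : x ∈ normalizer (D : Set (SpecialLinearGroup (Fin n) F))) (v : Fin n → F) :
    (x : Matrix (Fin n) (Fin n) F) *ᵥ v ∈ l_fix D ↔ v ∈ l_fix D := by
  have key : ∀ y : SpecialLinearGroup (Fin n) F,
      y ∈ normalizer (D : Set (SpecialLinearGroup (Fin n) F)) → ∀ u ∈ l_fix D,
      (y : Matrix (Fin n) (Fin n) F) *ᵥ u ∈ l_fix D := by
    intro y hy u hu d hd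
    have h1 : y⁻¹ * d * y⁻¹⁻¹ ∈ D :=
      (mem_normalizer_iff.mp ((normalizer (D : Set (SpecialLinearGroup (Fin n) F))).inv_mem hy)
        d).mp hd
    have h2 := hu _ h1
    rw [l_coe_mul, l_coe_mul, inv_inv, ← Matrix.mulVec_mulVec, ← Matrix.mulVec_mulVec] at h2
    have h3 : (y : Matrix (Fin n) (Fin n) F) *ᵥ
        (((y⁻¹ : SpecialLinearGroup (Fin n) F) : Matrix (Fin n) (Fin n) F) *ᵥ
          ((d : Matrix (Fin n) (Fin n) F) *ᵥ ((y : Matrix (Fin n) (Fin n) F) *ᵥ u))) =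
        (y : Matrix (Fin n) (Fin n) F) *ᵥ u := by rw [h2]
    rwa [l_mulVec_inv] at h3
  constructor
  · intro h
    have := key x⁻¹ ((normalizer (D : Set (SpecialLinearGroup (Fin n) F))).inv_mem hx) _ h
    rwa [l_inv_mulVec] at this
  · exact key x hx v

section charp

variable (p : ℕ) [Fact p.Prime] [CharP F p]

/-- `l_UW W` has exponent `p`. -/
theorem l_UW_pow (W : Submodule F (Fin n → F)) (g : SpecialLinearGroup (Fin n) F)
    (hg : g ∈ l_UW W) : g ^ p = 1 := by
  rcases Nat.eq_zero_or_pos n with hn | hn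
  · subst hn
    exact Subsingleton.elim _ _
  have hne : Nonempty (Fin n) := ⟨⟨0, hn⟩⟩
  obtain ⟨hg1, hg2⟩ := hg
  have hp : p.Prime := Fact.out
  set N : Matrix (Fin n) (Fin n) F := (g : Matrix (Fin n) (Fin n) F) - 1 with hN
  have hNN : N * N = 0 := by
    apply l_mat_ext
    intro v
    rw [← Matrix.mulVec_mulVec, Matrix.zero_mulVec]
    have h1 : N *ᵥ v ∈ W := by
      rw [hN, Matrix.sub_mulVec, Matrix.one_mulVec]
      exact hg2 v
    rw [hN, Matrix.sub_mulVec, Matrix.one_mulVec, hg1 _ h1, sub_self]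
  have hNp : N ^ p = 0 := by
    obtain ⟨k, hk⟩ : ∃ k, p = 2 + k := ⟨p - 2, by have := hp.two_le; omega⟩
    rw [hk, pow_add, pow_two, hNN, zero_mul]
  have hg' : (g : Matrix (Fin n) (Fin n) F) = 1 + N := by rw [hN]; abel
  have key : ((g ^ p : SpecialLinearGroup (Fin n) F) : Matrix (Fin n) (Fin n) F) = 1 := by
    rw [Matrix.SpecialLinearGroup.coe_pow, hg', add_pow_char_of_commute p (Commute.one_left N),
      one_pow, hNp, add_zero]
  exact Subtype.ext key

theorem l_UW_isPGroup (W : Submodule F (Fin n → F)) : IsPGroup p (l_UW (n := n) W) := by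
  intro g
  refine ⟨1, ?_⟩
  apply Subtype.ext
  rw [pow_one, Subgroup.coe_pow]
  exact l_UW_pow p W g g.2

/-- A finite `p`-subgroup has a non-zero fixed vector. -/
theorem l_fix_ne_bot [Finite F] (hn : 0 < n) (D : Subgroup (SpecialLinearGroup (Fin n) F))
    (hD : IsPGroup p D) : l_fix D ≠ ⊥ := by
  have hne0 : Nonempty (Fin n) := ⟨⟨0, hn⟩⟩
  have hfin : Finite (SpecialLinearGroup (Fin n) F) := by
    have : Function.Injective (fun g : SpecialLinearGroup (Fin n) F =>
        (g : Matrix (Fin n) (Fin n) F)) := Subtype.val_injective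
    exact Finite.of_injective _ this
  let ρ : ↥D →* AddMonoid.End (Fin n → F) :=
    { toFun := fun d =>
        { toFun := fun v => ((d : SpecialLinearGroup (Fin n) F) : Matrix (Fin n) (Fin n) F) *ᵥ v
          map_zero' := Matrix.mulVec_zero _
          map_add' := fun a b => Matrix.mulVec_add _ a b }
      map_one' := by
        ext v : 1
        change ((1 : SpecialLinearGroup (Fin n) F) : Matrix (Fin n) (Fin n) F) *ᵥ v = v
        rw [l_coe_one, Matrix.one_mulVec]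
      map_mul' := by
        intro a b
        ext v : 1
        change (((a : SpecialLinearGroup (Fin n) F) * (b : SpecialLinearGroup (Fin n) F) :
          SpecialLinearGroup (Fin n) F) : Matrix (Fin n) (Fin n) F) *ᵥ v = _
        rw [l_coe_mul, ← Matrix.mulVec_mulVec]
        rfl }
  have hV : ∀ v : Fin n → F, p • v = 0 := by
    intro v
    ext i
    rw [Pi.smul_apply, Pi.zero_apply, nsmul_eq_mul, CharP.cast_eq_zero F p, zero_mul]
  have hne : (⊤ : AddSubgroup (Fin n → F)) ≠ ⊥ := by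
    intro h
    have h1 : (fun _ : Fin n => (1 : F)) ∈ (⊥ : AddSubgroup (Fin n → F)) := by
      rw [← h]; exact AddSubgroup.mem_top _
    rw [AddSubgroup.mem_bot] at h1
    have := congrFun h1 ⟨0, hn⟩
    simp at this
  obtain ⟨v, -, hv0, hv⟩ := Cfsg.Agent.Helper4.exists_fixed_ne_zero_of_pgroup hD ρ hV ⊤
    (fun _ _ _ => AddSubgroup.mem_top _) hne
  intro hbot
  apply hv0
  have : v ∈ l_fix D := fun d hd => hv ⟨d, hd⟩
  rw [hbot, Submodule.mem_bot] at this
  exact this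

/-- A non-trivial subgroup does not fix every vector. -/
theorem l_fix_ne_top (D : Subgroup (SpecialLinearGroup (Fin n) F)) (hD : D ≠ ⊥) :
    l_fix D ≠ ⊤ := by
  intro htop
  apply hD
  rw [eq_bot_iff]
  intro d hd
  rw [Subgroup.mem_bot]
  apply Subtype.ext
  apply l_mat_ext
  intro v
  have hv : v ∈ l_fix D := by rw [htop]; exact Submodule.mem_top
  rw [hv d hd, l_coe_one, Matrix.one_mulVec]

end charp

end Cfsg.Agent.SLBlk
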