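import Mathlib
import Cfsg.Agent.SLBlk.L_RadB

set_option autoImplicit false

/-!
# The centraliser of `l_UW W`, and radical `p`-subgroups of `SL_n(F)` (lead)

`l_radical_SL`: if `D ≠ 1` is a `p`-subgroup of `SL_n(F)` (`F` finite of characteristic `p`) with
`D = O_p(N(D))`, then every `p`-regular element of `C(D)` is central.
-/

namespace Cfsg.Agent.SLBlk

open Matrix Subgroup
open Cfsg.Agent.MinIdx

variable {F : Type*} [Field F] {n : ℕ}

theorem l_tvM_mulVec (e φ x : Fin n → F) : h8_tvM e φ *ᵥ x = x + (φ ⬝ᵥ x) • e := by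
  unfold h8_tvM
  rw [Matrix.add_mulVec, Matrix.one_mulVec]
  congr 1
  ext i
  simp only [Matrix.mulVec, Matrix.vecMulVec_apply, dotProduct, Pi.smul_apply, smul_eq_mul]
  rw [Finset.sum_mul]
  apply Finset.sum_congr rfl
  intro j _
  ring

theorem l_tv_coe (e φ : Fin n → F) (h : φ ⬝ᵥ e = 0) :
    ((h8_tv e φ h : SpecialLinearGroup (Fin n) F) : Matrix (Fin n) (Fin n) F) = h8_tvM e φ := rfl

/-- A transvection with centre in `W` and functional vanishing on `W` lies in `l_UW W`. -/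
theorem l_tv_mem_UW (W : Submodule F (Fin n → F)) (w φ : Fin n → F) (hw : w ∈ W)
    (hφ : ∀ u ∈ W, φ ⬝ᵥ u = 0) : h8_tv w φ (hφ w hw) ∈ l_UW W := by
  refine ⟨fun v hv => ?_, fun v => ?_⟩
  · rw [l_tv_coe, l_tvM_mulVec, hφ v hv, zero_smul, add_zero]
  · rw [l_tv_coe, l_tvM_mulVec, add_sub_cancel_left]
    exact W.smul_mem _ hw

/-- Separation: a vector outside `W` is detected by a functional vanishing on `W`. -/
theorem l_exists_functional (W : Submodule F (Fin n → F)) (y : Fin n → F) (hy : y ∉ W) :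
    ∃ φ : Fin n → F, (∀ u ∈ W, φ ⬝ᵥ u = 0) ∧ φ ⬝ᵥ y ≠ 0 := by
  obtain ⟨f, hfy, hfW⟩ := Submodule.exists_dual_map_eq_bot_of_notMem hy inferInstance
  have key : ∀ v : Fin n → F, (fun i => f (Pi.single i 1)) ⬝ᵥ v = f v := by
    intro v
    rw [LinearMap.pi_apply_eq_sum_univ f v]
    unfold dotProduct
    apply Finset.sum_congr rfl
    intro i _
    have e : (Pi.single i 1 : Fin n → F) = fun j => if i = j then 1 else 0 := by
      ext j
      rw [Pi.single_apply]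
      simp only [eq_comm]
    rw [smul_eq_mul, mul_comm]
    change v i * f (Pi.single i 1) = _
    rw [e]
  refine ⟨fun i => f (Pi.single i 1), fun u hu => ?_, ?_⟩
  · rw [key]
    have : f u ∈ W.map f := ⟨u, hu, rfl⟩
    rw [hfW, Submodule.mem_bot] at this
    exact this
  · rw [key]
    exact hfy

/-- An element commuting with `l_UW W` acts on `W` and on `V/W` by one and the same scalar. -/
theorem l_centralizer_scalar (W : Submodule F (Fin n → F)) (hW0 : W ≠ ⊥) (hW1 : W ≠ ⊤)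
    (x : SpecialLinearGroup (Fin n) F) (hx : ∀ g ∈ l_UW W, x * g = g * x) :
    ∃ c : F, (∀ w ∈ W, (x : Matrix (Fin n) (Fin n) F) *ᵥ w = c • w) ∧
      ∀ v, (x : Matrix (Fin n) (Fin n) F) *ᵥ v - c • v ∈ W := by
  -- the commutation relation, applied to a vector
  have comm : ∀ (w φ : Fin n → F), w ∈ W → (∀ u ∈ W, φ ⬝ᵥ u = 0) → ∀ v : Fin n → F,
      (φ ⬝ᵥ v) • ((x : Matrix (Fin n) (Fin n) F) *ᵥ w) =
        (φ ⬝ᵥ ((x : Matrix (Fin n) (Fin n) F) *ᵥ v)) • w := by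
    intro w φ hw hφ v
    have h1 := hx _ (l_tv_mem_UW W w φ hw hφ)
    have h2 : ((x * h8_tv w φ (hφ w hw) : SpecialLinearGroup (Fin n) F) :
        Matrix (Fin n) (Fin n) F) *ᵥ v =
        ((h8_tv w φ (hφ w hw) * x : SpecialLinearGroup (Fin n) F) :
          Matrix (Fin n) (Fin n) F) *ᵥ v := by rw [h1]
    rw [l_coe_mul, l_coe_mul, ← Matrix.mulVec_mulVec, ← Matrix.mulVec_mulVec, l_tv_coe,
      l_tvM_mulVec, l_tvM_mulVec, Matrix.mulVec_add, Matrix.mulVec_smul] at h2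
    exact add_left_cancel h2
  obtain ⟨v0, hv0⟩ : ∃ v0 : Fin n → F, v0 ∉ W := by
    by_contra hcon
    apply hW1
    rw [eq_top_iff]
    intro v _
    by_contra hv
    exact hcon ⟨v, hv⟩
  obtain ⟨w0, hw0W, hw00⟩ : ∃ w0 ∈ W, w0 ≠ 0 := by
    by_contra hcon
    apply hW0
    rw [eq_bot_iff]
    intro v hv
    rw [Submodule.mem_bot]
    by_contra hv0
    exact hcon ⟨v, hv, hv0⟩
  obtain ⟨φ0, hφ0, hφ0v⟩ := l_exists_functional W v0 hv0
  refine ⟨(φ0 ⬝ᵥ v0)⁻¹ * (φ0 ⬝ᵥ ((x : Matrix (Fin n) (Fin n) F) *ᵥ v0)), ?_, ?_⟩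
  · intro w hw
    have h := comm w φ0 hw hφ0 v0
    rw [mul_smul, ← h, smul_smul, inv_mul_cancel₀ hφ0v, one_smul]
  · have hc : ∀ w ∈ W, (x : Matrix (Fin n) (Fin n) F) *ᵥ w =
        ((φ0 ⬝ᵥ v0)⁻¹ * (φ0 ⬝ᵥ ((x : Matrix (Fin n) (Fin n) F) *ᵥ v0))) • w := by
      intro w hw
      have h := comm w φ0 hw hφ0 v0
      rw [mul_smul, ← h, smul_smul, inv_mul_cancel₀ hφ0v, one_smul]
    intro v
    by_contra hnot
    obtain ⟨φ, hφ, hφy⟩ := l_exists_functional W _ hnot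
    apply hφy
    have h := comm w0 φ hw0W hφ v
    rw [hc w0 hw0W, smul_smul] at h
    have h2 : ((φ ⬝ᵥ v) * ((φ0 ⬝ᵥ v0)⁻¹ * (φ0 ⬝ᵥ ((x : Matrix (Fin n) (Fin n) F) *ᵥ v0))) -
        φ ⬝ᵥ ((x : Matrix (Fin n) (Fin n) F) *ᵥ v)) • w0 = 0 := by
      rw [sub_smul, h, sub_self]
    rcases smul_eq_zero.mp h2 with h3 | h3
    · rw [dotProduct_sub, dotProduct_smul, smul_eq_mul]
      rw [sub_eq_zero] at h3
      rw [← h3]
      ring
    · exact absurd h3 hw00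

end Cfsg.Agent.SLBlk
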