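import Mathlib
import Cfsg.Agent.SLBlk.L_RadC

set_option autoImplicit false

/-!
# Radical `p`-subgroups of `SL_n(F)`: `p`-regular elements of the centraliser are central (lead)
-/

namespace Cfsg.Agent.SLBlk

open Matrix Subgroup

variable {F : Type*} [Field F] {n : ℕ} (p : ℕ) [Fact p.Prime] [CharP F p]

/-- An element acting on `W ≠ 0` and on `V/W` by the same scalar, of order prime to `p`, is
central. -/
theorem l_central_of_scalar (W : Submodule F (Fin n → F)) (hW0 : W ≠ ⊥)
    (x : SpecialLinearGroup (Fin n) F) (c : F)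
    (h1 : ∀ w ∈ W, (x : Matrix (Fin n) (Fin n) F) *ᵥ w = c • w)
    (h2 : ∀ v, (x : Matrix (Fin n) (Fin n) F) *ᵥ v - c • v ∈ W)
    (hreg : ¬ p ∣ orderOf x) : x ∈ center (SpecialLinearGroup (Fin n) F) := by
  have hp : p.Prime := Fact.out
  rcases Nat.eq_zero_or_pos n with hn | hn
  · subst hn
    have : x = 1 := Subsingleton.elim _ _
    rw [this]
    exact Subgroup.one_mem _
  have hne : Nonempty (Fin n) := ⟨⟨0, hn⟩⟩
  set N : Matrix (Fin n) (Fin n) F := (x : Matrix (Fin n) (Fin n) F) - c • 1 with hN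
  have hNv : ∀ v, N *ᵥ v = (x : Matrix (Fin n) (Fin n) F) *ᵥ v - c • v := by
    intro v
    rw [hN, Matrix.sub_mulVec, Matrix.smul_mulVec, Matrix.one_mulVec]
  have hNN : N * N = 0 := by
    apply l_mat_ext
    intro v
    rw [← Matrix.mulVec_mulVec, Matrix.zero_mulVec, hNv (N *ᵥ v)]
    have h3 : N *ᵥ v ∈ W := by rw [hNv]; exact h2 v
    rw [h1 _ h3, sub_self]
  have hNp : N ^ p = 0 := by
    obtain ⟨k, hk⟩ : ∃ k, p = 2 + k := ⟨p - 2, by have := hp.two_le; omega⟩
    rw [hk, pow_add, pow_two, hNN, zero_mul]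
  have hx' : (x : Matrix (Fin n) (Fin n) F) = c • 1 + N := by rw [hN]; abel
  have hcomm : Commute (c • (1 : Matrix (Fin n) (Fin n) F)) N :=
    Commute.smul_left (Commute.one_left N) c
  have key : ((x ^ p : SpecialLinearGroup (Fin n) F) : Matrix (Fin n) (Fin n) F) =
      (c ^ p) • 1 := by
    rw [Matrix.SpecialLinearGroup.coe_pow, hx', add_pow_char_of_commute p hcomm, hNp, add_zero,
      smul_pow, one_pow]
  have hcen : x ^ p ∈ center (SpecialLinearGroup (Fin n) F) := by
    rw [Matrix.SpecialLinearGroup.mem_center_iff]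
    refine ⟨c ^ p, ?_, ?_⟩
    · have hdet : ((x ^ p : SpecialLinearGroup (Fin n) F) : Matrix (Fin n) (Fin n) F).det = 1 :=
        (x ^ p).2
      rw [key, Matrix.det_smul, Matrix.det_one, mul_one] at hdet
      exact hdet
    · rw [key]
      ext i j
      rw [Matrix.scalar_apply, Matrix.diagonal_apply, Matrix.smul_apply, Matrix.one_apply]
      split_ifs <;> simp
  obtain ⟨m, hm⟩ := exists_pow_eq_self_of_coprime
    ((Nat.Prime.coprime_iff_not_dvd hp).mpr hreg)
  rw [← hm]
  exact Subgroup.pow_mem _ hcen m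

/-- If `D ≠ 1` is a `p`-subgroup of `SL_n(F)` with `D = O_p(N(D))`, every `p`-regular element of
`C(D)` is central. -/
theorem l_radical_SL [Finite F] (hn : 0 < n) (D : Subgroup (SpecialLinearGroup (Fin n) F))
    (hDp : IsPGroup p D) (hD : D ≠ ⊥)
    (hrad : (Cfsg.pCore p ↥(normalizer (D : Set (SpecialLinearGroup (Fin n) F)))).map
      (normalizer (D : Set (SpecialLinearGroup (Fin n) F))).subtype = D)
    (x : SpecialLinearGroup (Fin n) F)
    (hx : x ∈ centralizer (D : Set (SpecialLinearGroup (Fin n) F)))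
    (hreg : ¬ p ∣ orderOf x) : x ∈ center (SpecialLinearGroup (Fin n) F) := by
  have hfin : Finite (SpecialLinearGroup (Fin n) F) := by
    have : Function.Injective (fun g : SpecialLinearGroup (Fin n) F =>
        (g : Matrix (Fin n) (Fin n) F)) := Subtype.val_injective
    exact Finite.of_injective _ this
  have hW0 := l_fix_ne_bot p hn D hDp
  have hW1 := l_fix_ne_top D hD
  have hNQ : normalizer (D : Set (SpecialLinearGroup (Fin n) F)) ≤
      normalizer (l_UW (l_fix D) : Set (SpecialLinearGroup (Fin n) F)) := by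
    intro y hy
    exact l_mem_normalizer_UW _ y (l_normalizer_stab D y hy)
  have hQD : l_UW (l_fix D) ≤ D :=
    l_le_of_radical p D (l_UW (l_fix D)) hDp (l_UW_isPGroup p _) hrad
      (le_trans le_normalizer hNQ) hNQ
  have hcomm : ∀ g ∈ l_UW (l_fix D), x * g = g * x := by
    intro g hg
    exact ((mem_centralizer_iff.mp hx) g (hQD hg)).symm
  obtain ⟨c, hc1, hc2⟩ := l_centralizer_scalar (l_fix D) hW0 hW1 x hcomm
  exact l_central_of_scalar p (l_fix D) hW0 x c hc1 hc2 hreg

end Cfsg.Agent.SLBlk
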