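import Mathlib
import Cfsg.Agent.SLBlk.H2_Defs
import Cfsg.Agent.Helper6.DefectZeroBlock
import Cfsg.Agent.Helper6.PowCongr

set_option autoImplicit false

/-!
# S4538 / S2440, piece P0 (helper2): a character of `p`-defect zero vanishes on `U ∖ 1`
-/

namespace Cfsg.Agent.SLBlk

open Matrix Cfsg Cfsg.Agent.Lead.SLBN Cfsg.Agent.Helper8.AutSLn

variable {F : Type*} [Field F] [Fintype F] {m : ℕ}

/-- defect zero, in the divisibility form used by helper6's library. -/
theorem p0_not_dvd {G : Type*} [Group G] [Finite G] (p : ℕ) [hp : Fact p.Prime] (χ : G → ℂ)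
    (hχ : IsIrrCharacter G χ)
    (hdef : (charDegree χ).factorization p = (Nat.card G).factorization p) :
    ¬ p ∣ Nat.card G / charDegree χ := by
  have hdvd := Cfsg.Agent.Helper6.charDegree_dvd_card hχ
  have hN0 : Nat.card G ≠ 0 := Nat.card_pos.ne'
  obtain ⟨k, hk⟩ := hdvd
  have hd0 : charDegree χ ≠ 0 := by
    intro h
    rw [h, zero_mul] at hk
    exact hN0 hk
  have hk0 : k ≠ 0 := by
    rintro rfl
    rw [mul_zero] at hk
    exact hN0 hk
  rw [hk, Nat.mul_div_cancel_left _ (Nat.pos_of_ne_zero hd0)]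
  intro hpk
  have h1 : (Nat.card G).factorization p = (charDegree χ).factorization p + k.factorization p := by
    rw [hk, Nat.factorization_mul hd0 hk0, Finsupp.add_apply]
  have h2 : 1 ≤ k.factorization p :=
    (hp.out.dvd_iff_one_le_factorization hk0).mp hpk
  omega

/-- (P0) a character of `p`-defect zero vanishes on the nonidentity elements of `U`. -/
theorem p0_vanish (p : ℕ) [Fact p.Prime] [CharP F p] (χ : SLm F m → ℂ)
    (hχ : IsIrrCharacter (SLm F m) χ)
    (hdef : (charDegree χ).factorization p = (Nat.card (SLm F m)).factorization p) :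
    VanU χ := by
  have hp : p.Prime := Fact.out
  intro u hu hu1
  obtain ⟨M, -, hM, hpM⟩ := Cfsg.Agent.Helper6.exists_isPModular p hp
  have hnd := p0_not_dvd p χ hχ hdef
  have hsing := Cfsg.Agent.Helper6.blockOf_eq_singleton_of_not_dvd hM p hp hpM ⟨χ, hχ⟩ hnd
  refine Cfsg.Agent.Helper6.vanish_of_blockOf_eq_singleton hM p hpM ⟨χ, hχ⟩ hsing u ?_
  obtain ⟨k, hk⟩ := (IsPGroup.iff_orderOf.mp (isPGroup_UT (F := F) (k := m + 1) p)) ⟨u, hu⟩
  rw [Subgroup.orderOf_mk] at hk
  rw [hk]
  apply dvd_pow_self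
  rintro rfl
  rw [pow_zero, orderOf_eq_one_iff] at hk
  exact hu1 hk

end Cfsg.Agent.SLBlk
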