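import Mathlib
import Cfsg.Agent.SLBlk.H2_Defs
import Cfsg.Agent.SLBlk.H2_GL
import Cfsg.Agent.SLBlk.H2_P2

set_option autoImplicit false

/-!
# S4538 / S2440, piece P4 (helper2): uniqueness of the character vanishing on `U ∖ 1`

Relative to the pieces P1 (intertwining bound), P3 (`lam = 1`, `n ≥ 3`) and P3′ (`n = 2`), given
here as hypotheses with the statements of the stub file.
-/

namespace Cfsg.Agent.SLBlk

open Matrix Cfsg Cfsg.Agent.Lead.SLBN Cfsg.Agent.Helper8.AutSLn Cfsg.Agent.Helper6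
open scoped ComplexConjugate

variable {F : Type*} [Field F] {m : ℕ}
variable [Fintype (SLm F m)] [Fintype ↥(Bs F m)] [Fintype ↥(UT F (m + 1))]

/-- the statement of (P1). -/
def P1Stmt (F : Type*) [Field F] (m : ℕ) [Fintype (SLm F m)] : Prop :=
  ∀ (lam : ↥(Bs F m) →* ℂˣ), TrivOnU lam → ∀ ψ : ↥(UT F (m + 1)) →* ℂˣ, NonDeg ψ →
    ∀ k : ℕ, classInner (indFun (Bs F m) (fun b => ((lam b : ℂˣ) : ℂ)))
      (indFun (UT F (m + 1)) (fun u => ((ψ u : ℂˣ) : ℂ))) = k → k ≤ 1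

/-- the common conclusion of (P3) and (P3′). -/
def P3Stmt (F : Type*) [Field F] (m : ℕ) [Fintype ↥(Bs F m)] : Prop :=
  ∀ χ : SLm F m → ℂ, IsIrrCharacter (SLm F m) χ → VanU χ →
    χ 1 = (Nat.card ↥(UT F (m + 1)) : ℂ) →
    ∀ lam : ↥(Bs F m) →* ℂˣ, TrivOnU lam →
      classInner (fun b : ↥(Bs F m) => χ b) (fun b => ((lam b : ℂˣ) : ℂ)) ≠ 0 → lam = 1

/-- (P4) two irreducible characters vanishing on `U ∖ 1` coincide. -/
theorem p4_unique_van_of [Finite F] (hP1 : P1Stmt F m) (hP3 : P3Stmt F m)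
    (χ χ' : SLm F m → ℂ)
    (hχ : IsIrrCharacter (SLm F m) χ) (hχ' : IsIrrCharacter (SLm F m) χ')
    (hvan : VanU χ) (hvan' : VanU χ') : χ = χ' := by
  classical
  by_contra hne
  obtain ⟨h1, lam, hlamU, hlam⟩ := p2_main_of hP1 χ hχ hvan
  obtain ⟨h1', lam', hlamU', hlam'⟩ := p2_main_of hP1 χ' hχ' hvan'
  have e1 : lam = 1 := hP3 χ hχ hvan h1 lam hlamU (by rw [hlam]; exact one_ne_zero)
  have e1' : lam' = 1 := hP3 χ' hχ' hvan' h1' lam' hlamU' (by rw [hlam']; exact one_ne_zero)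
  subst e1
  subst e1'
  obtain ⟨ψ, hψ⟩ := p2_exists_nondeg (F := F) (m := m)
  have hχc := IsIrrCharacter.isCharacter hχ
  have hχc' := IsIrrCharacter.isCharacter hχ'
  have hcf := IsCharacter.isClassFunction hχc
  have hcf' := IsCharacter.isClassFunction hχc'
  set Θ₁ : SLm F m → ℂ :=
    indFun (Bs F m) (fun b => (((1 : ↥(Bs F m) →* ℂˣ) b : ℂˣ) : ℂ)) with hΘ₁
  set Θ₂ : SLm F m → ℂ := indFun (UT F (m + 1)) (fun u => ((ψ u : ℂˣ) : ℂ)) with hΘ₂
  have hL : IsCharacter (SLm F m) Θ₁ :=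
    isCharacter_indFun _ _ (IsIrrCharacter.isCharacter (isIrrCharacter_of_hom _))
  have hΨ : IsCharacter (SLm F m) Θ₂ :=
    isCharacter_indFun _ _ (IsIrrCharacter.isCharacter (isIrrCharacter_of_hom ψ))
  have hU0 : (Nat.card ↥(UT F (m + 1)) : ℂ) ≠ 0 := by
    exact_mod_cast (Nat.card_pos (α := ↥(UT F (m + 1)))).ne'
  have a1 : classInner Θ₁ χ ≠ 0 := by
    rw [hΘ₁, frobenius_reciprocity (Bs F m) _ χ hcf, classInner_conj_symm, hlam, map_one]
    exact one_ne_zero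
  have a1' : classInner Θ₁ χ' ≠ 0 := by
    rw [hΘ₁, frobenius_reciprocity (Bs F m) _ χ' hcf', classInner_conj_symm, hlam', map_one]
    exact one_ne_zero
  have a2 : classInner Θ₂ χ ≠ 0 := by
    rw [hΘ₂, frobenius_reciprocity (UT F (m + 1)) _ χ hcf, classInner_conj_symm,
      p2_inner_U χ hvan ψ, h1, div_self hU0, map_one]
    exact one_ne_zero
  have a2' : classInner Θ₂ χ' ≠ 0 := by
    rw [hΘ₂, frobenius_reciprocity (UT F (m + 1)) _ χ' hcf', classInner_conj_symm,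
      p2_inner_U χ' hvan' ψ, h1', div_self hU0, map_one]
    exact one_ne_zero
  obtain ⟨k, hk⟩ := classInner_char_char_nat hL hΨ
  have h2 : 2 ≤ k := gl_inner_ge_two hL hΨ hχ hχ' hne a1 a2 a1' a2' hk
  have h3 : k ≤ 1 := hP1 1 (fun _ _ => rfl) ψ hψ k hk
  omega

end Cfsg.Agent.SLBlk
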