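import Mathlib
import Cfsg.Agent.S0906
import Cfsg.Agent.S0908
import Cfsg.Agent.Helper6.DefectZeroBlock
import Cfsg.Agent.Helper6.BlockEquiv
import Cfsg.Agent.Helper6.DefectClass
import Cfsg.Agent.Helper6.QuotDefA
import Cfsg.Agent.Helper6.SylBlkA

set_option autoImplicit false

/-!
# Blocks of defect zero and of full defect: abstract glue (helper3)

For a finite group `G`, a prime `p` and a `p`-modular ideal `M`:

* `h3_card_defect_zero`: if some irreducible character has `p`-defect zero and it is the only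
  irreducible character vanishing on the `p`-singular elements, then there is exactly one block of
  defect zero;
* `h3_full_iff`: a block has full defect iff a given Sylow `p`-subgroup is a defect group of it;
* `h3_card_blocks`: if every block has defect `0` or `e ≠ 0`, the number of blocks is the sum of the
  numbers of blocks of these two kinds.
-/

namespace Cfsg.Agent.SLBlk

open Cfsg Cfsg.Agent.Helper6

universe u

variable {G : Type u} [Group G] [Finite G]

/-- a `p`-defect zero character: the `p`-part of its degree is that of `|G|` -/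
theorem h3_fact_of_not_dvd (p : ℕ) [hp : Fact p.Prime] (χ : Cfsg.IrrCharacter G)
    (h : ¬ p ∣ Nat.card G / Cfsg.charDegree (χ : G → ℂ)) :
    (Cfsg.charDegree (χ : G → ℂ)).factorization p = (Nat.card G).factorization p := by
  have hdvd := charDegree_dvd_card χ.2
  have hG0 : Nat.card G ≠ 0 := Nat.card_pos.ne'
  have hG : Nat.card G = Cfsg.charDegree (χ : G → ℂ) *
      (Nat.card G / Cfsg.charDegree (χ : G → ℂ)) := (Nat.mul_div_cancel' hdvd).symm
  have hd0 : Cfsg.charDegree (χ : G → ℂ) ≠ 0 := by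
    intro h0
    rw [h0, zero_mul] at hG
    exact hG0 hG
  have hk0 : Nat.card G / Cfsg.charDegree (χ : G → ℂ) ≠ 0 := by
    intro h0
    rw [h0, mul_zero] at hG
    exact hG0 hG
  have h1 : (Nat.card G).factorization p = (Cfsg.charDegree (χ : G → ℂ) *
      (Nat.card G / Cfsg.charDegree (χ : G → ℂ))).factorization p := by rw [← hG]
  rw [Nat.factorization_mul hd0 hk0, Finsupp.add_apply,
    Nat.factorization_eq_zero_of_not_dvd h, add_zero] at h1
  exact h1.symm

theorem h3_not_dvd_of_fact (p : ℕ) [hp : Fact p.Prime] (χ : Cfsg.IrrCharacter G)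
    (h : (Nat.card G).factorization p ≤ (Cfsg.charDegree (χ : G → ℂ)).factorization p) :
    ¬ p ∣ Nat.card G / Cfsg.charDegree (χ : G → ℂ) := by
  have hdvd := charDegree_dvd_card χ.2
  have hG0 : Nat.card G ≠ 0 := Nat.card_pos.ne'
  have hG : Nat.card G = Cfsg.charDegree (χ : G → ℂ) *
      (Nat.card G / Cfsg.charDegree (χ : G → ℂ)) := (Nat.mul_div_cancel' hdvd).symm
  have hd0 : Cfsg.charDegree (χ : G → ℂ) ≠ 0 := by
    intro h0
    rw [h0, zero_mul] at hG
    exact hG0 hG
  have hk0 : Nat.card G / Cfsg.charDegree (χ : G → ℂ) ≠ 0 := by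
    intro h0
    rw [h0, mul_zero] at hG
    exact hG0 hG
  have h1 : (Nat.card G).factorization p = (Cfsg.charDegree (χ : G → ℂ) *
      (Nat.card G / Cfsg.charDegree (χ : G → ℂ))).factorization p := by rw [← hG]
  rw [Nat.factorization_mul hd0 hk0, Finsupp.add_apply] at h1
  intro hdiv
  have h2 : 1 ≤ (Nat.card G / Cfsg.charDegree (χ : G → ℂ)).factorization p :=
    (hp.out.dvd_iff_one_le_factorization hk0).mp hdiv
  omega

/-- the defect of the block `{χ}` of a defect zero character is `0` -/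
theorem h3_blockDefect_singleton (p : ℕ) [hp : Fact p.Prime] (χ : Cfsg.IrrCharacter G)
    (h : ¬ p ∣ Nat.card G / Cfsg.charDegree (χ : G → ℂ)) :
    Cfsg.blockDefect p ({χ} : Set (Cfsg.IrrCharacter G)) = 0 := by
  unfold Cfsg.blockDefect
  rw [Set.image_singleton, csInf_singleton, h3_fact_of_not_dvd p χ h, Nat.sub_self]

/-- a block of defect zero is the singleton of a character vanishing on `p`-singular elements -/
theorem h3_defect_zero_block (p : ℕ) [hp : Fact p.Prime] (M : Ideal Cfsg.AlgInt)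
    (hM : Cfsg.IsPModular p M) (B : Set (Cfsg.IrrCharacter G)) (hB : Cfsg.IsPBlock M B)
    (h0 : Cfsg.blockDefect p B = 0) :
    ∃ χ : Cfsg.IrrCharacter G, B = {χ} ∧ ¬ p ∣ Nat.card G / Cfsg.charDegree (χ : G → ℂ) ∧
      ∀ g : G, p ∣ orderOf g → (χ : G → ℂ) g = 0 := by
  obtain ⟨χ', rfl⟩ := hB
  have hMm : M.IsMaximal := hM.2.1
  have hpM : (p : Cfsg.AlgInt) ∈ M := hM.2.2
  set S : Set ℕ := (fun χ : Cfsg.IrrCharacter G =>
    (Cfsg.charDegree (χ : G → ℂ)).factorization p) '' Cfsg.blockOf M (χ' : G → ℂ) with hS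
  have hne : S.Nonempty := ⟨_, χ', mem_blockOf_self hMm χ', rfl⟩
  obtain ⟨χ, hχB, hχ⟩ := Nat.sInf_mem hne
  have hle : (Nat.card G).factorization p ≤ (Cfsg.charDegree (χ : G → ℂ)).factorization p := by
    unfold Cfsg.blockDefect at h0
    rw [← hS] at h0
    simp only at hχ
    omega
  have hnd := h3_not_dvd_of_fact p χ hle
  have hsing := blockOf_eq_singleton_of_not_dvd hMm p hp.out hpM χ hnd
  have heq : Cfsg.blockOf M (χ' : G → ℂ) = Cfsg.blockOf M (χ : G → ℂ) :=
    blockOf_eq_of_sameBlock hMm hχB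
  refine ⟨χ, heq.trans hsing, hnd, vanish_of_blockOf_eq_singleton hMm p hpM χ hsing⟩

/-- **exactly one block of defect zero** from existence and uniqueness of a character vanishing on
the `p`-singular elements -/
theorem h3_card_defect_zero (p : ℕ) [hp : Fact p.Prime] (M : Ideal Cfsg.AlgInt)
    (hM : Cfsg.IsPModular p M) (χ0 : Cfsg.IrrCharacter G)
    (h0 : ¬ p ∣ Nat.card G / Cfsg.charDegree (χ0 : G → ℂ))
    (huq : ∀ χ : Cfsg.IrrCharacter G,
      (∀ g : G, p ∣ orderOf g → (χ : G → ℂ) g = 0) → χ = χ0) :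
    Nat.card {B : Set (Cfsg.IrrCharacter G) //
      Cfsg.IsPBlock M B ∧ Cfsg.blockDefect p B = 0} = 1 := by
  have hMm : M.IsMaximal := hM.2.1
  have hpM : (p : Cfsg.AlgInt) ∈ M := hM.2.2
  have hsing := blockOf_eq_singleton_of_not_dvd hMm p hp.out hpM χ0 h0
  rw [Nat.card_eq_one_iff_unique]
  constructor
  · constructor
    rintro ⟨B, hB, hB0⟩ ⟨B', hB', hB0'⟩
    obtain ⟨χ, rfl, -, hv⟩ := h3_defect_zero_block p M hM B hB hB0
    obtain ⟨χ', rfl, -, hv'⟩ := h3_defect_zero_block p M hM B' hB' hB0'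
    apply Subtype.ext
    change ({χ} : Set (Cfsg.IrrCharacter G)) = {χ'}
    rw [huq χ hv, huq χ' hv']
  · exact ⟨⟨{χ0}, ⟨χ0, hsing.symm⟩, h3_blockDefect_singleton p χ0 h0⟩⟩

/-- a block has full defect iff the Sylow `p`-subgroup `P` is a defect group of it -/
theorem h3_full_iff (p : ℕ) [hp : Fact p.Prime] (M : Ideal Cfsg.AlgInt)
    (hM : Cfsg.IsPModular p M) (P : Sylow p G) (B : Set (Cfsg.IrrCharacter G))
    (hB : Cfsg.IsPBlock M B) :
    Cfsg.blockDefect p B = (Nat.card G).factorization p ↔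
      Cfsg.IsDefectGroup p M B (P : Subgroup G) := by
  constructor
  · intro hfull
    obtain ⟨g, hg⟩ := Cfsg.Agent.S0906.result p M hM B hB
    obtain ⟨Q⟩ : Nonempty (Sylow p (Subgroup.centralizer ({g} : Set G))) := inferInstance
    set D : Subgroup G := (Q : Subgroup (Subgroup.centralizer ({g} : Set G))).map
      (Subgroup.centralizer ({g} : Set G)).subtype with hD
    have hDdef : Cfsg.IsDefectGroup p M B D := ⟨g, hg, Q, rfl⟩
    have hcard := Cfsg.Agent.S0908.result p M hM B hB D hDdef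
    rw [hfull] at hcard
    have hDp : IsPGroup p D := IsPGroup.of_card hcard
    obtain ⟨Q', hQ'⟩ := hDp.exists_le_sylow
    have hQ'card : Nat.card (Q' : Subgroup G) = p ^ (Nat.card G).factorization p :=
      Sylow.card_eq_multiplicity Q'
    have hDQ : D = (Q' : Subgroup G) := by
      apply Subgroup.eq_of_le_of_card_ge hQ'
      rw [hcard, hQ'card]
    obtain ⟨x, hx⟩ := MulAction.exists_smul_eq G Q' P
    have h1 := isDefectGroup_conj (M := M) B D hDdef x
    have h2 : D.map (MulAut.conj x).toMonoidHom = (P : Subgroup G) := by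
      rw [hDQ, ← hx, Sylow.coe_subgroup_smul, Subgroup.pointwise_smul_def]
      rfl
    rwa [h2] at h1
  · intro hD
    have hcard := Cfsg.Agent.S0908.result p M hM B hB (P : Subgroup G) hD
    have hPcard : Nat.card (P : Subgroup G) = p ^ (Nat.card G).factorization p :=
      Sylow.card_eq_multiplicity P
    rw [hPcard] at hcard
    exact (Nat.pow_right_injective hp.out.two_le hcard).symm

/-- counting the blocks when every block has defect `0` or `e ≠ 0` -/
theorem h3_card_blocks (p : ℕ) (M : Ideal Cfsg.AlgInt) (e : ℕ) (he : e ≠ 0)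
    (hall : ∀ B : Set (Cfsg.IrrCharacter G), Cfsg.IsPBlock M B →
      Cfsg.blockDefect p B = 0 ∨ Cfsg.blockDefect p B = e) :
    Nat.card {B : Set (Cfsg.IrrCharacter G) // Cfsg.IsPBlock M B} =
      Nat.card {B : Set (Cfsg.IrrCharacter G) // Cfsg.IsPBlock M B ∧ Cfsg.blockDefect p B = 0} +
      Nat.card {B : Set (Cfsg.IrrCharacter G) // Cfsg.IsPBlock M B ∧ Cfsg.blockDefect p B = e} := by
  have hfin0 : Finite {B : Set (Cfsg.IrrCharacter G) // Cfsg.IsPBlock M B} := finite_blocks
  have hfin : {B : Set (Cfsg.IrrCharacter G) | Cfsg.IsPBlock M B}.Finite :=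
    Set.finite_coe_iff.mp hfin0
  have e1 : {B : Set (Cfsg.IrrCharacter G) | Cfsg.IsPBlock M B} =
      {B | Cfsg.IsPBlock M B ∧ Cfsg.blockDefect p B = 0} ∪
      {B | Cfsg.IsPBlock M B ∧ Cfsg.blockDefect p B = e} := by
    ext B
    constructor
    · intro hB
      rcases hall B hB with h | h
      · exact Or.inl ⟨hB, h⟩
      · exact Or.inr ⟨hB, h⟩
    · rintro (h | h)
      · exact h.1
      · exact h.1
  have hdisj : Disjoint {B : Set (Cfsg.IrrCharacter G) |
      Cfsg.IsPBlock M B ∧ Cfsg.blockDefect p B = 0}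
      {B | Cfsg.IsPBlock M B ∧ Cfsg.blockDefect p B = e} := by
    rw [Set.disjoint_left]
    rintro B ⟨-, h1⟩ ⟨-, h2⟩
    rw [h1] at h2
    exact he h2.symm
  have hf1 : {B : Set (Cfsg.IrrCharacter G) |
      Cfsg.IsPBlock M B ∧ Cfsg.blockDefect p B = 0}.Finite :=
    hfin.subset (fun B hB => hB.1)
  have hf2 : {B : Set (Cfsg.IrrCharacter G) |
      Cfsg.IsPBlock M B ∧ Cfsg.blockDefect p B = e}.Finite :=
    hfin.subset (fun B hB => hB.1)
  have h3 := Set.ncard_union_eq hdisj hf1 hf2
  rw [← e1] at h3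
  rw [← Nat.card_coe_set_eq, ← Nat.card_coe_set_eq, ← Nat.card_coe_set_eq] at h3
  exact h3

end Cfsg.Agent.SLBlk
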