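import Mathlib
import Cfsg.Agent.SLBlk.H2_Defs
import Cfsg.Agent.SLBlk.H2_GL
import Cfsg.Agent.Helper6.Induced
import Cfsg.Agent.Helper6.Linear
import Cfsg.Agent.Helper7.SL2Sylow
import Cfsg.Agent.SL2Pres.B

set_option autoImplicit false

/-!
# S4538 / S2440, piece P3' (helper4): `n = 2`, the linear character `lam` of `B` is trivial

`Ind_B^G lam` has degree `q + 1` and contains `χ` (degree `q`); the complement is a linear
character `η` of `SL_2(F)` with `η|_B = lam`; `η` is trivial on the upper unitriangular matrices,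
hence on their conjugates, hence on `SL_2(F)`.
-/

namespace Cfsg.Agent.SLBlk

open Matrix Cfsg Cfsg.Agent.Lead.SLBN Cfsg.Agent.Helper8.AutSLn Cfsg.Agent.Helper6
open scoped ComplexConjugate

variable {F : Type*} [Field F]

/-- an element of `Bs F 1` is `[[a, c], [0, a⁻¹]]` -/
theorem h4_Bs1_entries (b : ↥(Bs F 1)) :
    ((b : SLm F 1) : Matrix (Fin (1+1)) (Fin (1+1)) F) 1 0 = 0 ∧
    ((b : SLm F 1) : Matrix (Fin (1+1)) (Fin (1+1)) F) 0 0 *
      ((b : SLm F 1) : Matrix (Fin (1+1)) (Fin (1+1)) F) 1 1 = 1 := by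
  have hb : ((b : SLm F 1) : Matrix (Fin (1+1)) (Fin (1+1)) F).BlockTriangular id := b.2
  have h10 : ((b : SLm F 1) : Matrix (Fin (1+1)) (Fin (1+1)) F) 1 0 = 0 := hb (by decide)
  refine ⟨h10, ?_⟩
  have hdet := (b : SLm F 1).2
  rw [Matrix.det_fin_two, h10, mul_zero, sub_zero] at hdet
  exact hdet

/-- the matrix `[[a, c], [0, a⁻¹]]` in `SL_2` -/
def h4_mkS (a : Fˣ) (c : F) : SpecialLinearGroup (Fin 2) F :=
  ⟨!![(a : F), c; 0, ((a⁻¹ : Fˣ) : F)], by simp [Matrix.det_fin_two]⟩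

theorem h4_mkS_mem (a : Fˣ) (c : F) : h4_mkS a c ∈ Bs F 1 := by
  show Matrix.BlockTriangular (h4_mkS a c : Matrix (Fin 2) (Fin 2) F) id
  intro i j hij
  fin_cases i <;> fin_cases j <;> simp_all [h4_mkS]

/-- `Bs F 1 ≃ Fˣ × F` -/
def h4_equivB : ↥(Bs F 1) ≃ Fˣ × F where
  toFun b := (⟨((b : SLm F 1) : Matrix (Fin (1+1)) (Fin (1+1)) F) 0 0,
      ((b : SLm F 1) : Matrix (Fin (1+1)) (Fin (1+1)) F) 1 1, (h4_Bs1_entries b).2,
      by rw [mul_comm]; exact (h4_Bs1_entries b).2⟩,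
    ((b : SLm F 1) : Matrix (Fin (1+1)) (Fin (1+1)) F) 0 1)
  invFun p := ⟨h4_mkS p.1 p.2, h4_mkS_mem p.1 p.2⟩
  left_inv b := by
    apply Subtype.ext
    apply Subtype.ext
    ext i j
    have h := h4_Bs1_entries b
    fin_cases i <;> fin_cases j
    · rfl
    · rfl
    · exact h.1.symm
    · rfl
  right_inv p := by
    obtain ⟨a, c⟩ := p
    apply Prod.ext
    · apply Units.ext
      rfl
    · rfl

theorem h4_card_Bs1 [Fintype F] :
    Nat.card ↥(Bs F 1) = (Fintype.card F - 1) * Fintype.card F := by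
  rw [Nat.card_congr h4_equivB, Nat.card_prod, Nat.card_units, Nat.card_eq_fintype_card]


/-- the value of an induced function at `1` -/
theorem h4_indFun_one {G : Type*} [Group G] [Fintype G] (H : Subgroup G) (θ : H → ℂ) :
    indFun H θ 1 = (Nat.card H : ℂ)⁻¹ * (Nat.card G : ℂ) * θ 1 := by
  rw [indFun_apply]
  have : ∀ x : G, extendByZero H θ (x⁻¹ * 1 * x) = θ 1 := by
    intro x
    rw [mul_one, inv_mul_cancel]
    exact extendByZero_coe H θ 1
  simp_rw [this]
  rw [Finset.sum_const, Finset.card_univ, nsmul_eq_mul, ← Nat.card_eq_fintype_card (α := G), mul_assoc]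

variable [Fintype F]

/-- (P3') `n = 2`. -/
theorem p3_lam_trivial_two (χ : SLm F 1 → ℂ) [Fintype (SLm F 1)] [Fintype ↥(Bs F 1)]
    (hχ : IsIrrCharacter (SLm F 1) χ)
    (h1 : χ 1 = (Nat.card ↥(UT F (1 + 1)) : ℂ))
    (lam : ↥(Bs F 1) →* ℂˣ) (hlam : TrivOnU lam)
    (hin : classInner (fun b : ↥(Bs F 1) => χ b) (fun b => ((lam b : ℂˣ) : ℂ)) ≠ 0) :
    lam = 1 := by
  classical
  have hq2 : 2 ≤ Fintype.card F := Fintype.one_lt_card
  -- degree of χ
  have hχ1 : χ 1 = (Fintype.card F : ℂ) := by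
    rw [h1, card_UT]
    simp [Fin.sum_univ_two]
  have hlamirr : IsIrrCharacter ↥(Bs F 1) (fun b => ((lam b : ℂˣ) : ℂ)) := isIrrCharacter_of_hom lam
  have hΘ : IsCharacter (SLm F 1) (indFun (Bs F 1) (fun b => ((lam b : ℂˣ) : ℂ))) :=
    isCharacter_indFun _ _ (IsIrrCharacter.isCharacter hlamirr)
  obtain ⟨a, ha⟩ := classInner_char_char_nat hΘ (IsIrrCharacter.isCharacter hχ)
  have hfrob : classInner (indFun (Bs F 1) (fun b => ((lam b : ℂˣ) : ℂ))) χ =
      classInner (fun b : ↥(Bs F 1) => ((lam b : ℂˣ) : ℂ)) (fun b : ↥(Bs F 1) => χ b) :=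
    frobenius_reciprocity _ _ _ (IsCharacter.isClassFunction (IsIrrCharacter.isCharacter hχ))
  have ha0 : a ≠ 0 := by
    rintro rfl
    apply hin
    rw [classInner_conj_symm, ← hfrob, ha]
    simp
  -- degree of the induced character
  have hΘ1 : indFun (Bs F 1) (fun b => ((lam b : ℂˣ) : ℂ)) 1 = (Fintype.card F : ℂ) + 1 := by
    rw [h4_indFun_one, h4_card_Bs1]
    have hG : Nat.card (SLm F 1) = Fintype.card F * (Fintype.card F ^ 2 - 1) :=
      Cfsg.Agent.Helper7.SL2.card_SL2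
    rw [hG]
    have e1 : Fintype.card F ^ 2 - 1 = (Fintype.card F - 1) * (Fintype.card F + 1) := by
      obtain ⟨k, hk⟩ : ∃ k, Fintype.card F = k + 1 := ⟨Fintype.card F - 1, by omega⟩
      rw [hk]
      simp only [Nat.add_sub_cancel]
      have : (k + 1) ^ 2 = k * (k + 1 + 1) + 1 := by ring
      rw [this, Nat.add_sub_cancel]
    rw [e1]
    have hne : ((Fintype.card F - 1 : ℕ) : ℂ) ≠ 0 := by
      have : Fintype.card F - 1 ≠ 0 := by omega
      exact_mod_cast this
    have hne2 : ((Fintype.card F : ℕ) : ℂ) ≠ 0 := by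
      have : Fintype.card F ≠ 0 := by omega
      exact_mod_cast this
    simp only [map_one, Units.val_one]
    push_cast
    field_simp
  have hR := gl_sub_char hΘ hχ ha
  obtain ⟨n, ρ, hρ⟩ := hR
  have hn1 : (n : ℂ) = (Fintype.card F : ℂ) + 1 - a * (Fintype.card F : ℂ) := by
    have h := Representation.char_one ρ
    rw [hρ] at h
    simp only [Pi.sub_apply, Pi.smul_apply, smul_eq_mul, hΘ1, hχ1, Module.finrank_fin_fun] at h
    exact h.symm
  have hnat : n + a * Fintype.card F = Fintype.card F + 1 := by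
    have : ((n + a * Fintype.card F : ℕ) : ℂ) = ((Fintype.card F + 1 : ℕ) : ℂ) := by
      push_cast; rw [hn1]; ring
    exact_mod_cast this
  have ha1 : a = 1 := by
    rcases a with _ | _ | a
    · exact absurd rfl ha0
    · rfl
    · exfalso; nlinarith
  subst ha1
  have hn : n = 1 := by omega
  subst hn
  obtain ⟨R, hRdef⟩ : ∃ R : SLm F 1 → ℂ,
      R = indFun (Bs F 1) (fun b => ((lam b : ℂˣ) : ℂ)) - ((1 : ℕ) : ℂ) • χ := ⟨_, rfl⟩
  rw [← hRdef] at hρ
  have hRirr : IsIrrCharacter (SLm F 1) R :=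
    ⟨1, ρ, isIrreducible_of_finrank_eq_one ρ (by simp), hρ⟩
  have hR1 : R 1 = 1 := by
    rw [hRdef]
    simp [hΘ1, hχ1]
  obtain ⟨η, hη⟩ := exists_hom_of_irr_degree_one hRirr hR1
  have hΘdecomp : indFun (Bs F 1) (fun b => ((lam b : ℂˣ) : ℂ)) = R + χ := by
    rw [hRdef]
    simp
  have hχR : χ ≠ R := by
    intro h
    have h2 := congrFun h 1
    rw [hR1, hχ1] at h2
    have : Fintype.card F = 1 := by exact_mod_cast h2
    omega
  have hinner : classInner (indFun (Bs F 1) (fun b => ((lam b : ℂˣ) : ℂ))) R = 1 := by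
    rw [hΘdecomp, classInner_add_left, classInner_irr_self hRirr, classInner_irr_ne hχ hRirr hχR,
      add_zero]
  have hfrob2 := frobenius_reciprocity (Bs F 1) (fun b => ((lam b : ℂˣ) : ℂ)) R
    (IsCharacter.isClassFunction (IsIrrCharacter.isCharacter hRirr))
  rw [hinner] at hfrob2
  rw [hη] at hfrob2
  have hRBirr : IsIrrCharacter ↥(Bs F 1)
      (fun b : ↥(Bs F 1) => (((η.comp (Bs F 1).subtype) b : ℂˣ) : ℂ)) := isIrrCharacter_of_hom _
  have heq : (fun b : ↥(Bs F 1) => ((lam b : ℂˣ) : ℂ)) =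
      fun b : ↥(Bs F 1) => (((η.comp (Bs F 1).subtype) b : ℂˣ) : ℂ) := by
    by_contra hne
    have h0 := classInner_irr_ne hlamirr hRBirr hne
    have h3 : classInner (fun b : ↥(Bs F 1) => ((lam b : ℂˣ) : ℂ))
        (fun b : ↥(Bs F 1) => (((η.comp (Bs F 1).subtype) b : ℂˣ) : ℂ)) = 1 := hfrob2.symm
    rw [h0] at h3
    exact zero_ne_one h3
  have hlamη : ∀ b : ↥(Bs F 1), lam b = η b := by
    intro b
    apply Units.ext
    exact congrFun heq b
  have hηx : ∀ c : F, η (SL2Pres.xM c) = 1 := by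
    intro c
    have hmemU : (SL2Pres.xM c : SLm F 1) ∈ UT F (1 + 1) := by
      show Matrix.BlockTriangular (SL2Pres.xM c : Matrix (Fin 2) (Fin 2) F) id ∧
        ∀ i, (SL2Pres.xM c : Matrix (Fin 2) (Fin 2) F) i i = 1
      constructor
      · intro i j hij
        fin_cases i <;> fin_cases j
        · exact absurd hij (by decide)
        · exact absurd hij (by decide)
        · simp [SL2Pres.xM]
        · exact absurd hij (by decide)
      · intro i
        fin_cases i <;> simp [SL2Pres.xM]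
    have hmemB : (SL2Pres.xM c : SLm F 1) ∈ Bs F 1 := UT_le_Bs hmemU
    have h5 := hlam ⟨_, hmemB⟩ hmemU
    rw [hlamη] at h5
    exact h5
  have hker : η.ker = ⊤ := by
    apply SL2Pres.b_closure_XY
    · intro c
      exact MonoidHom.mem_ker.mpr (hηx c)
    · intro c
      rw [MonoidHom.mem_ker]
      have h6 := SL2Pres.b_tM_xM_yM (F := F) (-c)
      rw [neg_neg] at h6
      rw [← h6, map_mul, map_mul, hηx, mul_one, map_inv, mul_inv_cancel]
  ext b : 1
  rw [hlamη b]
  have h7 : (b : SLm F 1) ∈ η.ker := by rw [hker]; trivial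
  rw [MonoidHom.one_apply]
  exact MonoidHom.mem_ker.mp h7

end Cfsg.Agent.SLBlk
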