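import Mathlib
import Cfsg.Agent.Helper6.IndFun

/-!
# S4538 / S2440, piece (P1), abstract part: a Mackey-type intertwining bound

`B, U ≤ G` finite, `lam : B →* ℂˣ`, `ψ : U →* ℂˣ`, `n₀ : G`. Suppose
* for every `x ∉ B n₀ U` there is `v ∈ U` with `ψ v ≠ 1`, `x v x⁻¹ ∈ B` and `lam (x v x⁻¹) = 1`;
* for `x ∈ B n₀ U`, the only `b ∈ B` with `x⁻¹ b x ∈ U` is `b = 1`.
Then `⟨Ind_B^G lam, Ind_U^G ψ⟩ ≤ 1`.
-/

set_option autoImplicit false

namespace Cfsg.Agent.SLBlk

open Cfsg Cfsg.Agent.Helper6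
open scoped ComplexConjugate

universe u

variable {G : Type u} [Group G]

/-- a linear character as a complex valued function -/
def homFun {H : Type*} [Group H] (ψ : H →* ℂˣ) : H → ℂ := fun u => ((ψ u : ℂˣ) : ℂ)

theorem homFun_apply {H : Type*} [Group H] (ψ : H →* ℂˣ) (u : H) :
    homFun ψ u = ((ψ u : ℂˣ) : ℂ) := rfl

theorem extendByZero_hom_mul (U : Subgroup G) (ψ : U →* ℂˣ) (v : U) (y : G) :
    extendByZero U (homFun ψ) ((v : G) * y) =
      ((ψ v : ℂˣ) : ℂ) * extendByZero U (homFun ψ) y := by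
  by_cases hy : y ∈ U
  · have hvy : (v : G) * y ∈ U := U.mul_mem v.2 hy
    rw [extendByZero_mem U _ hvy, extendByZero_mem U _ hy, homFun_apply, homFun_apply,
      ← Units.val_mul, ← map_mul]
    rfl
  · have hvy : (v : G) * y ∉ U := fun h => hy ((U.mul_mem_cancel_left v.2).mp h)
    rw [extendByZero_not_mem U _ hvy, extendByZero_not_mem U _ hy, mul_zero]

/-- the inner sum `T(x) = Σ_{b ∈ B} lam(b) conj ψ°(x⁻¹ b x)` -/
noncomputable def mackeySum (B U : Subgroup G) [Fintype B] (lam : B →* ℂˣ) (ψ : U →* ℂˣ)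
    (x : G) : ℂ :=
  ∑ b : B, homFun lam b * conj (extendByZero U (homFun ψ) (x⁻¹ * (b : G) * x))

theorem mackeySum_eq_zero (B U : Subgroup G) [Fintype B] (lam : B →* ℂˣ) (ψ : U →* ℂˣ) (x : G)
    (v : U) (hv : ψ v ≠ 1) (hb : x * (v : G) * x⁻¹ ∈ B) (hl : lam ⟨x * (v : G) * x⁻¹, hb⟩ = 1) :
    mackeySum B U lam ψ x = 0 := by
  have key : mackeySum B U lam ψ x = conj ((ψ v : ℂˣ) : ℂ) * mackeySum B U lam ψ x := by
    unfold mackeySum
    rw [Finset.mul_sum]
    rw [← Equiv.sum_comp (Equiv.mulLeft (⟨x * (v : G) * x⁻¹, hb⟩ : B))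
      (fun b : B => homFun lam b * conj (extendByZero U (homFun ψ) (x⁻¹ * (b : G) * x)))]
    apply Finset.sum_congr rfl
    intro b _
    rw [Equiv.coe_mulLeft]
    have e1 : x⁻¹ * (((⟨x * (v : G) * x⁻¹, hb⟩ : B) * b : B) : G) * x =
        (v : G) * (x⁻¹ * (b : G) * x) := by
      rw [Subgroup.coe_mul]
      show x⁻¹ * (x * (v : G) * x⁻¹ * (b : G)) * x = _
      group
    have e2 : homFun lam ((⟨x * (v : G) * x⁻¹, hb⟩ : B) * b) = homFun lam b := by
      rw [homFun_apply, homFun_apply, map_mul, hl, one_mul]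
    rw [e1, e2, extendByZero_hom_mul, map_mul]
    ring
  have hne : conj ((ψ v : ℂˣ) : ℂ) ≠ 1 := by
    intro h
    apply hv
    apply Units.ext
    have := congrArg conj h
    rw [Complex.conj_conj, map_one] at this
    rw [this]
    rfl
  have h0 : (1 - conj ((ψ v : ℂˣ) : ℂ)) * mackeySum B U lam ψ x = 0 := by
    rw [sub_mul, one_mul, ← key, sub_self]
  rcases mul_eq_zero.mp h0 with h | h
  · exact absurd (sub_eq_zero.mp h).symm hne
  · exact h

theorem mackeySum_eq_one (B U : Subgroup G) [Fintype B] (lam : B →* ℂˣ) (ψ : U →* ℂˣ) (x : G)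
    (hx : ∀ b : B, x⁻¹ * (b : G) * x ∈ U → b = 1) :
    mackeySum B U lam ψ x = 1 := by
  unfold mackeySum
  rw [Finset.sum_eq_single (1 : B)]
  · have h1 : x⁻¹ * ((1 : B) : G) * x = ((1 : U) : G) := by
      rw [Subgroup.coe_one, Subgroup.coe_one]
      group
    rw [h1, extendByZero_coe, homFun_apply, homFun_apply, map_one, map_one, Units.val_one,
      map_one, mul_one]
  · intro b _ hb
    have : x⁻¹ * (b : G) * x ∉ U := fun h => hb (hx b h)
    rw [extendByZero_not_mem U _ this, map_zero, mul_zero]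
  · intro h
    exact absurd (Finset.mem_univ _) h

/-- Frobenius + unfolding: `⟨Ind_B lam, Ind_U ψ⟩ = (|B| |U|)⁻¹ Σ_x T(x)` -/
theorem classInner_ind_ind [Fintype G] (B U : Subgroup G) [Fintype B] [Fintype U]
    (lam : B →* ℂˣ) (ψ : U →* ℂˣ) :
    classInner (indFun B (homFun lam)) (indFun U (homFun ψ)) =
      (Nat.card B : ℂ)⁻¹ * (Nat.card U : ℂ)⁻¹ * ∑ x : G, mackeySum B U lam ψ x := by
  rw [frobenius_reciprocity B (homFun lam) _ (indFun_isClassFunction U (homFun ψ))]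
  unfold classInner
  rw [mul_assoc]
  congr 1
  simp_rw [indFun_apply, map_mul, map_sum]
  unfold mackeySum
  rw [Finset.sum_comm, Finset.mul_sum]
  apply Finset.sum_congr rfl
  intro b _
  simp only [Finset.mul_sum]
  apply Finset.sum_congr rfl
  intro x _
  have : conj ((Nat.card U : ℂ)⁻¹) = (Nat.card U : ℂ)⁻¹ := by
    rw [map_inv₀, Complex.conj_natCast]
  rw [this]
  ring

/-- **The abstract intertwining bound.** -/
theorem inner_ind_ind_le_one [Fintype G] (B U : Subgroup G) [Fintype B] [Fintype U]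
    (lam : B →* ℂˣ) (ψ : U →* ℂˣ) (n₀ : G)
    (hvan : ∀ x : G, (¬ ∃ (b : B) (u : U), x = (b : G) * n₀ * (u : G)) →
      ∃ v : U, ψ v ≠ 1 ∧ ∃ hb : x * (v : G) * x⁻¹ ∈ B, lam ⟨x * (v : G) * x⁻¹, hb⟩ = 1)
    (hone : ∀ (b : B) (u : U) (b' : B),
      ((b : G) * n₀ * (u : G))⁻¹ * (b' : G) * ((b : G) * n₀ * (u : G)) ∈ U → b' = 1)
    (k : ℕ)
    (hk : classInner (indFun B (fun b => ((lam b : ℂˣ) : ℂ)))
      (indFun U (fun u => ((ψ u : ℂˣ) : ℂ))) = k) : k ≤ 1 := by
  classical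
  have h1 := classInner_ind_ind B U lam ψ
  change classInner (indFun B (fun b => ((lam b : ℂˣ) : ℂ)))
      (indFun U (fun u => ((ψ u : ℂˣ) : ℂ))) = _ at h1
  rw [hk] at h1
  set Ω : Finset G := Finset.univ.filter
    (fun x : G => ∃ (b : B) (u : U), x = (b : G) * n₀ * (u : G)) with hΩ
  have hsum : ∑ x : G, mackeySum B U lam ψ x = (Ω.card : ℂ) := by
    rw [Finset.card_eq_sum_ones, Nat.cast_sum, hΩ, Finset.sum_filter]
    apply Finset.sum_congr rfl
    intro x _
    split_ifs with hx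
    · obtain ⟨b, u, rfl⟩ := hx
      rw [Nat.cast_one]
      exact mackeySum_eq_one B U lam ψ _ (hone b u)
    · obtain ⟨v, hv, hb, hl⟩ := hvan x hx
      exact mackeySum_eq_zero B U lam ψ x v hv hb hl
  have hcard : Ω.card ≤ Nat.card B * Nat.card U := by
    have hsub : Ω ⊆ (Finset.univ : Finset (B × U)).image
        (fun p : B × U => (p.1 : G) * n₀ * (p.2 : G)) := by
      intro x hx
      rw [hΩ, Finset.mem_filter] at hx
      obtain ⟨-, b, u, rfl⟩ := hx
      exact Finset.mem_image.mpr ⟨(b, u), Finset.mem_univ _, rfl⟩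
    calc Ω.card ≤ _ := Finset.card_le_card hsub
      _ ≤ (Finset.univ : Finset (B × U)).card := Finset.card_image_le
      _ = Nat.card B * Nat.card U := by
        rw [Finset.card_univ, Fintype.card_prod, Nat.card_eq_fintype_card,
          Nat.card_eq_fintype_card]
  have hBpos : 0 < Nat.card B := Nat.card_pos
  have hUpos : 0 < Nat.card U := Nat.card_pos
  rw [hsum] at h1
  have h2 : (k : ℂ) * ((Nat.card B : ℂ) * (Nat.card U : ℂ)) = (Ω.card : ℂ) := by
    rw [h1]
    have hB0 : (Nat.card B : ℂ) ≠ 0 := Nat.cast_ne_zero.mpr hBpos.ne'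
    have hU0 : (Nat.card U : ℂ) ≠ 0 := Nat.cast_ne_zero.mpr hUpos.ne'
    field_simp
  have h3 : k * (Nat.card B * Nat.card U) = Ω.card := by
    exact_mod_cast h2
  by_contra hk2
  rw [not_le] at hk2
  have hpos : 0 < Nat.card B * Nat.card U := Nat.mul_pos hBpos hUpos
  have : 2 * (Nat.card B * Nat.card U) ≤ k * (Nat.card B * Nat.card U) :=
    Nat.mul_le_mul_right _ hk2
  omega

end Cfsg.Agent.SLBlk
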