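import Mathlib
import Cfsg.Agent.SLBlk.H2_Defs
import Cfsg.Agent.SLBlk.H8_P1A
import Cfsg.Agent.Helper7.BNBasic

/-!
# S4538 / S2440, piece (P1): `⟨Ind_B^G lam, Ind_U^G ψ⟩ ≤ 1` for `G = SL_{m+1}(F)`

`lam` a linear character of `B` trivial on `U`, `ψ` a nondegenerate linear character of `U`.
Matrix part: Bruhat covering `G = ⋃ B n U`, for `n` not of pattern `w₀` some fundamental root
element is conjugated into `U`, and `B ∩ n₀ U n₀⁻¹ = 1` for `n₀` of pattern `w₀`.
-/

set_option autoImplicit false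

namespace Cfsg.Agent.SLBlk

open Matrix Cfsg Cfsg.Agent.Lead.SLBN Cfsg.Agent.Helper8.AutSLn

variable {F : Type*} [Field F] {m : ℕ}

/-- `U` is normalised by `B`. -/
theorem p1_conj_mem_UT {b u : SpecialLinearGroup (Fin (m + 1)) F} (hb : b ∈ Bs F m)
    (hu : u ∈ UT F (m + 1)) : b * u * b⁻¹ ∈ UT F (m + 1) := by
  have hbB : (b : Matrix (Fin (m + 1)) (Fin (m + 1)) F).BlockTriangular id := mem_Bs.mp hb
  have hinv := upper_inv hbB
  have huB := hu.1
  refine mem_UT.mpr ⟨?_, fun i => ?_⟩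
  · change ((b : Matrix (Fin (m + 1)) (Fin (m + 1)) F) *
      (u : Matrix (Fin (m + 1)) (Fin (m + 1)) F) *
      ((b⁻¹ : SpecialLinearGroup (Fin (m + 1)) F) :
        Matrix (Fin (m + 1)) (Fin (m + 1)) F)).BlockTriangular id
    exact (hbB.mul huB).mul hinv
  · change ((b : Matrix (Fin (m + 1)) (Fin (m + 1)) F) *
      (u : Matrix (Fin (m + 1)) (Fin (m + 1)) F) *
      ((b⁻¹ : SpecialLinearGroup (Fin (m + 1)) F) :
        Matrix (Fin (m + 1)) (Fin (m + 1)) F)) i i = 1
    rw [diag_mul_of_upper (hbB.mul huB) hinv, diag_mul_of_upper hbB huB, hu.2 i, mul_one,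
      ← diag_mul_of_upper hbB hinv, coe_mul_inv, one_apply_eq]

/-- `B = T U`. -/
theorem p1_exists_diag_mul {b : SpecialLinearGroup (Fin (m + 1)) F} (hb : b ∈ Bs F m) :
    ∃ t u : SpecialLinearGroup (Fin (m + 1)) F, t ∈ Bs F m ⊓ Ns F m ∧ u ∈ UT F (m + 1) ∧ b = t * u := by
  have hbB : (b : Matrix (Fin (m + 1)) (Fin (m + 1)) F).BlockTriangular id := mem_Bs.mp hb
  have hdet : (Matrix.diagonal fun i => (b : Matrix (Fin (m + 1)) (Fin (m + 1)) F) i i).det =
      1 := by
    rw [Matrix.det_diagonal, ← Matrix.det_of_isUpperTriangular hbB]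
    exact b.2
  obtain ⟨t, ht⟩ : ∃ t : SpecialLinearGroup (Fin (m + 1)) F, (t : Matrix (Fin (m + 1)) (Fin (m + 1)) F) =
      Matrix.diagonal fun i => (b : Matrix (Fin (m + 1)) (Fin (m + 1)) F) i i :=
    ⟨⟨_, hdet⟩, rfl⟩
  have htB : t ∈ Bs F m := by
    rw [mem_Bs, ht]
    exact blockTriangular_diagonal _
  have ht1 : MonoP (1 : Equiv.Perm (Fin (m + 1)))
      (t : Matrix (Fin (m + 1)) (Fin (m + 1)) F) := by
    intro i j hij
    rw [Equiv.Perm.one_apply] at hij
    rw [ht]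
    exact Matrix.diagonal_apply_ne _ hij
  have hinvB : ((t⁻¹ : SpecialLinearGroup (Fin (m + 1)) F) : Matrix (Fin (m + 1)) (Fin (m + 1)) F).BlockTriangular id :=
    upper_inv htB
  have ht2 : MonoP (1 : Equiv.Perm (Fin (m + 1)))
      ((t⁻¹ : SpecialLinearGroup (Fin (m + 1)) F) : Matrix (Fin (m + 1)) (Fin (m + 1)) F) := by
    intro i j hij
    rw [Equiv.Perm.one_apply] at hij
    have h1 := mono_mul_apply ht1 ((t⁻¹ : SpecialLinearGroup (Fin (m + 1)) F) : Matrix (Fin (m + 1)) (Fin (m + 1)) F) i j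
    rw [coe_mul_inv, one_apply_ne hij, inv_one, Equiv.Perm.one_apply] at h1
    rcases mul_eq_zero.mp h1.symm with h | h
    · exact absurd h (diag_ne_zero htB i)
    · exact h
  refine ⟨t, t⁻¹ * b, mem_inf_of_mono_one ht1 ht2, ?_, by group⟩
  refine mem_UT.mpr ⟨?_, fun i => ?_⟩
  · change (((t⁻¹ : SpecialLinearGroup (Fin (m + 1)) F) :
      Matrix (Fin (m + 1)) (Fin (m + 1)) F) *
      (b : Matrix (Fin (m + 1)) (Fin (m + 1)) F)).BlockTriangular id
    exact hinvB.mul hbB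
  · have h1 := diag_mul_of_upper hinvB (mem_Bs.mp htB) i
    rw [coe_inv_mul, one_apply_eq, ht, Matrix.diagonal_apply_eq] at h1
    change (((t⁻¹ : SpecialLinearGroup (Fin (m + 1)) F) :
      Matrix (Fin (m + 1)) (Fin (m + 1)) F) *
      (b : Matrix (Fin (m + 1)) (Fin (m + 1)) F)) i i = 1
    rw [diag_mul_of_upper hinvB hbB]
    exact h1.symm

/-- a permutation of `Fin (m+1)` without ascent is the order reversal -/
theorem p1_eq_revPerm (σ : Equiv.Perm (Fin (m + 1)))
    (h : ∀ i : Fin m, σ i.succ < σ i.castSucc) : σ = Fin.revPerm := by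
  have hanti : StrictAnti σ := Fin.strictAnti_iff_succ_lt.mpr h
  have hmono : StrictMono (fun j => σ (Fin.rev j)) := by
    intro a b hab
    exact hanti (Fin.rev_lt_rev.mpr hab)
  have hle : ∀ j, j ≤ σ (Fin.rev j) := fun j => hmono.le_apply
  -- the inverse direction
  have hmono' : StrictMono (fun j => Fin.rev (σ⁻¹ j)) := by
    intro a b hab
    show Fin.rev (σ⁻¹ a) < Fin.rev (σ⁻¹ b)
    rw [Fin.rev_lt_rev]
    by_contra hcon
    rw [not_lt] at hcon
    rcases hcon.lt_or_eq with h1 | h1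
    · have := hanti h1
      rw [perm_apply_inv, perm_apply_inv] at this
      exact lt_asymm hab this
    · have := σ⁻¹.injective h1
      exact hab.ne this
  have hle' : ∀ j, j ≤ Fin.rev (σ⁻¹ j) := fun j => hmono'.le_apply
  apply Equiv.ext
  intro j
  rw [Fin.revPerm_apply]
  apply le_antisymm
  · have := hle' (σ j)
    rw [perm_inv_apply] at this
    exact this
  · have := hle (Fin.rev j)
    rw [Fin.rev_rev] at this
    exact this

/-- a fundamental root element whose root stays positive under `σ` is conjugated into `U` -/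
theorem p1_conj_xr_mem_UT {n : SpecialLinearGroup (Fin (m + 1)) F}
    {σ : Equiv.Perm (Fin (m + 1))}
    (h1 : MonoP σ (n : Matrix (Fin (m + 1)) (Fin (m + 1)) F))
    (h2 : MonoP σ⁻¹ ((n⁻¹ : SpecialLinearGroup (Fin (m + 1)) F) :
      Matrix (Fin (m + 1)) (Fin (m + 1)) F))
    (i : Fin m) (hlt : σ i.castSucc < σ i.succ) (c : F) :
    n * xr i c * n⁻¹ ∈ UT F (m + 1) := by
  refine mem_UT.mpr ⟨?_, fun r => ?_⟩
  · intro r s hsr
    change s < r at hsr
    rw [conj_apply h1 h2, xr_coe, transvection_apply]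
    have hne : σ⁻¹ r ≠ σ⁻¹ s := fun e => hsr.ne' (σ⁻¹.injective e)
    rw [one_apply_ne hne, if_neg, add_zero, mul_zero, zero_mul]
    rintro ⟨e1, e2⟩
    have e1' : r = σ i.castSucc := by rw [← e1, perm_apply_inv]
    have e2' : s = σ i.succ := by rw [← e2, perm_apply_inv]
    rw [e1', e2'] at hsr
    exact lt_asymm hlt hsr
  · rw [conj_apply h1 h2, xr_coe, transvection_apply, one_apply_eq, if_neg, add_zero, mul_one]
    · have h3 := conj_apply h1 h2 (1 : SpecialLinearGroup (Fin (m + 1)) F) r r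
      rw [mul_one, mul_inv_cancel] at h3
      have hone : ∀ j : Fin (m + 1), ((1 : SpecialLinearGroup (Fin (m + 1)) F) :
          Matrix (Fin (m + 1)) (Fin (m + 1)) F) j j = 1 := fun j => one_apply_eq j
      rw [hone, hone, mul_one] at h3
      exact h3.symm
    · rintro ⟨e1, e2⟩
      exact adj_ne i (e1.symm.trans e2)

/-- `B ∩ n₀ U n₀⁻¹ = 1` for `n₀` of pattern `w₀` -/
theorem p1_eq_one_of_conj_rev {n0 c : SpecialLinearGroup (Fin (m + 1)) F}
    (hn1 : MonoP (Fin.revPerm : Equiv.Perm (Fin (m + 1)))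
      (n0 : Matrix (Fin (m + 1)) (Fin (m + 1)) F))
    (hn2 : MonoP (Fin.revPerm : Equiv.Perm (Fin (m + 1)))⁻¹
      ((n0⁻¹ : SpecialLinearGroup (Fin (m + 1)) F) : Matrix (Fin (m + 1)) (Fin (m + 1)) F))
    (hc : c ∈ Bs F m) (hU : n0⁻¹ * c * n0 ∈ UT F (m + 1)) : c = 1 := by
  have hcB : (c : Matrix (Fin (m + 1)) (Fin (m + 1)) F).BlockTriangular id := mem_Bs.mp hc
  have hnz1 : ∀ s : Fin (m + 1), (n0 : Matrix (Fin (m + 1)) (Fin (m + 1)) F)
      ((Fin.revPerm : Equiv.Perm (Fin (m + 1))) s) s ≠ 0 := fun s => mono_entry_ne_zero hn1 s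
  have hnz2 : ∀ r : Fin (m + 1), ((n0⁻¹ : SpecialLinearGroup (Fin (m + 1)) F) :
      Matrix (Fin (m + 1)) (Fin (m + 1)) F) r
      ((Fin.revPerm : Equiv.Perm (Fin (m + 1))) r) ≠ 0 := by
    intro r
    have := mono_entry_ne_zero hn2 ((Fin.revPerm : Equiv.Perm (Fin (m + 1))) r)
    rwa [perm_inv_apply] at this
  have hone : ∀ r : Fin (m + 1), ((n0⁻¹ : SpecialLinearGroup (Fin (m + 1)) F) :
      Matrix (Fin (m + 1)) (Fin (m + 1)) F) r ((Fin.revPerm : Equiv.Perm (Fin (m + 1))) r) *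
      (n0 : Matrix (Fin (m + 1)) (Fin (m + 1)) F)
        ((Fin.revPerm : Equiv.Perm (Fin (m + 1))) r) r = 1 := by
    intro r
    have h3 := conj_inv_apply hn1 hn2 (1 : SpecialLinearGroup (Fin (m + 1)) F) r r
    rw [mul_one, inv_mul_cancel] at h3
    have h1 : ∀ j : Fin (m + 1), ((1 : SpecialLinearGroup (Fin (m + 1)) F) :
        Matrix (Fin (m + 1)) (Fin (m + 1)) F) j j = 1 := fun j => one_apply_eq j
    rw [h1, h1, mul_one] at h3
    exact h3.symm
  have hentry : ∀ a b : Fin (m + 1), (c : Matrix (Fin (m + 1)) (Fin (m + 1)) F) a b =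
      (1 : Matrix (Fin (m + 1)) (Fin (m + 1)) F) a b := by
    intro a b
    rcases lt_trichotomy a b with hab | hab | hab
    · -- above the diagonal: use the lower entry `(rev a, rev b)` of the conjugate
      have hsr : id ((Fin.revPerm : Equiv.Perm (Fin (m + 1))) b) <
          id ((Fin.revPerm : Equiv.Perm (Fin (m + 1))) a) := by
        rw [Fin.revPerm_apply, Fin.revPerm_apply]
        exact Fin.rev_lt_rev.mpr hab
      have h3 := hU.1 hsr
      rw [conj_inv_apply hn1 hn2] at h3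
      have e1 : (Fin.revPerm : Equiv.Perm (Fin (m + 1)))
          ((Fin.revPerm : Equiv.Perm (Fin (m + 1))) a) = a := by
        rw [Fin.revPerm_apply, Fin.revPerm_apply, Fin.rev_rev]
      have e2 : (Fin.revPerm : Equiv.Perm (Fin (m + 1)))
          ((Fin.revPerm : Equiv.Perm (Fin (m + 1))) b) = b := by
        rw [Fin.revPerm_apply, Fin.revPerm_apply, Fin.rev_rev]
      rw [e1, e2] at h3
      have h4 := hnz2 ((Fin.revPerm : Equiv.Perm (Fin (m + 1))) a)
      have h5 := hnz1 ((Fin.revPerm : Equiv.Perm (Fin (m + 1))) b)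
      rw [e1] at h4
      rw [e2] at h5
      rw [one_apply_ne hab.ne]
      rcases mul_eq_zero.mp h3 with h6 | h6
      · rcases mul_eq_zero.mp h6 with h7 | h7
        · exact absurd h7 h4
        · exact h7
      · exact absurd h6 h5
    · subst hab
      rw [one_apply_eq]
      have h3 := hU.2 ((Fin.revPerm : Equiv.Perm (Fin (m + 1))) a)
      rw [conj_inv_apply hn1 hn2] at h3
      have e1 : (Fin.revPerm : Equiv.Perm (Fin (m + 1)))
          ((Fin.revPerm : Equiv.Perm (Fin (m + 1))) a) = a := by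
        rw [Fin.revPerm_apply, Fin.revPerm_apply, Fin.rev_rev]
      have h4 := hone ((Fin.revPerm : Equiv.Perm (Fin (m + 1))) a)
      rw [e1] at h3 h4
      have h5 := hnz2 ((Fin.revPerm : Equiv.Perm (Fin (m + 1))) a)
      have h6 := hnz1 ((Fin.revPerm : Equiv.Perm (Fin (m + 1))) a)
      rw [e1] at h5 h6
      -- `p * c_aa * q = 1` and `p * q = 1`
      have h7 : ((n0⁻¹ : SpecialLinearGroup (Fin (m + 1)) F) :
          Matrix (Fin (m + 1)) (Fin (m + 1)) F)
          ((Fin.revPerm : Equiv.Perm (Fin (m + 1))) a) a *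
          (n0 : Matrix (Fin (m + 1)) (Fin (m + 1)) F) a
            ((Fin.revPerm : Equiv.Perm (Fin (m + 1))) a) *
          ((c : Matrix (Fin (m + 1)) (Fin (m + 1)) F) a a - 1) = 0 := by
        linear_combination h3 - h4
      rcases mul_eq_zero.mp h7 with h8 | h8
      · rw [h4] at h8
        exact absurd h8 one_ne_zero
      · exact sub_eq_zero.mp h8
    · rw [one_apply_ne hab.ne']
      exact hcB hab
  apply Subtype.ext
  ext a b
  exact hentry a b

end Cfsg.Agent.SLBlk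

namespace Cfsg.Agent.SLBlk

open Matrix Cfsg Cfsg.Agent.Lead.SLBN Cfsg.Agent.Helper8.AutSLn

variable {F : Type*} [Field F] [Fintype F] {m : ℕ}
variable [Fintype (SLm F m)] [Fintype ↥(Bs F m)] [Fintype ↥(UT F (m + 1))]

/-! ## (P1) the intertwining bound -/

theorem p1_inter (lam : ↥(Bs F m) →* ℂˣ) (hlam : TrivOnU lam)
    (ψ : ↥(UT F (m + 1)) →* ℂˣ) (hψ : NonDeg ψ) (k : ℕ)
    (hk : classInner (indFun (Bs F m) (fun b => ((lam b : ℂˣ) : ℂ)))
      (indFun (UT F (m + 1)) (fun u => ((ψ u : ℂˣ) : ℂ))) = k) : k ≤ 1 := by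
  obtain ⟨n0, hn1, hn2⟩ := exists_pattern (F := F) (Fin.revPerm : Equiv.Perm (Fin (m + 1)))
  refine inner_ind_ind_le_one (Bs F m) (UT F (m + 1)) lam ψ n0 ?_ ?_ k hk
  · -- vanishing off the big cell
    intro x hx
    obtain ⟨n, hn, hxn⟩ := Cfsg.Agent.Helper7.BN.bruhat_exists (slBN F m) x
    rw [Cfsg.Agent.Helper7.BN.mem_C] at hxn
    obtain ⟨b, hb, b', hb', rfl⟩ := hxn
    have hb1 : b ∈ Bs F m := hb
    have hb2 : b' ∈ Bs F m := hb'
    obtain ⟨σ, h1, h2⟩ := mem_Ns.mp (show n ∈ Ns F m from hn)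
    obtain ⟨t, u, ht, hu, rfl⟩ := p1_exists_diag_mul hb2
    obtain ⟨ht1, ht2⟩ := mono_one_of_mem_inf ht
    have h1' : MonoP σ ((n * t : SpecialLinearGroup (Fin (m + 1)) F) :
        Matrix (Fin (m + 1)) (Fin (m + 1)) F) := by
      have := h1.mul ht1
      rwa [mul_one] at this
    have h2' : MonoP σ⁻¹ (((n * t)⁻¹ : SpecialLinearGroup (Fin (m + 1)) F) :
        Matrix (Fin (m + 1)) (Fin (m + 1)) F) := by
      rw [_root_.mul_inv_rev]
      have := ht2.mul h2
      rwa [one_mul] at this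
    by_cases hall : ∀ i : Fin m, σ i.succ < σ i.castSucc
    · exfalso
      have hσ := p1_eq_revPerm σ hall
      rw [hσ] at h1'
      apply hx
      have hmem : n * t * n0⁻¹ ∈ Bs F m := by
        rw [mem_Bs]
        apply upper_of_mono_one
        have := h1'.mul hn2
        rwa [mul_inv_cancel] at this
      refine ⟨⟨b * (n * t * n0⁻¹), mul_mem hb1 hmem⟩, ⟨u, hu⟩, ?_⟩
      show b * n * (t * u) = b * (n * t * n0⁻¹) * n0 * u
      group
    · push Not at hall
      obtain ⟨i, hi⟩ := hall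
      have hlt : σ i.castSucc < σ i.succ :=
        lt_of_le_of_ne hi (fun e => adj_ne i (σ.injective e))
      obtain ⟨c, hc⟩ := hψ i
      have hvU : u⁻¹ * xr i c * u ∈ UT F (m + 1) :=
        mul_mem (mul_mem (inv_mem hu) (xr_mem_UT i c)) hu
      refine ⟨⟨u⁻¹ * xr i c * u, hvU⟩, ?_, ?_⟩
      · have e : (⟨u⁻¹ * xr i c * u, hvU⟩ : ↥(UT F (m + 1))) =
            (⟨u, hu⟩ : ↥(UT F (m + 1)))⁻¹ * ⟨xr i c, xr_mem_UT i c⟩ * ⟨u, hu⟩ := rfl
        rw [e, map_mul, map_mul, map_inv, mul_comm, ← mul_assoc, mul_inv_cancel, one_mul]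
        exact hc
      · have hconj : b * n * (t * u) * (u⁻¹ * xr i c * u) * (b * n * (t * u))⁻¹ =
            b * ((n * t) * xr i c * (n * t)⁻¹) * b⁻¹ := by group
        have hU' : b * n * (t * u) * (u⁻¹ * xr i c * u) * (b * n * (t * u))⁻¹ ∈
            UT F (m + 1) := by
          rw [hconj]
          exact p1_conj_mem_UT hb1 (p1_conj_xr_mem_UT h1' h2' i hlt c)
        exact ⟨UT_le_Bs hU', hlam ⟨_, UT_le_Bs hU'⟩ hU'⟩
  · -- the big cell
    intro b u b' hmem
    have hc : (b : SpecialLinearGroup (Fin (m + 1)) F)⁻¹ * b' * b ∈ Bs F m :=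
      mul_mem (mul_mem (inv_mem b.2) b'.2) b.2
    have hU : n0⁻¹ * ((b : SpecialLinearGroup (Fin (m + 1)) F)⁻¹ * b' * b) * n0 ∈
        UT F (m + 1) := by
      have e : n0⁻¹ * ((b : SpecialLinearGroup (Fin (m + 1)) F)⁻¹ * b' * b) * n0 =
          u * (((b : SpecialLinearGroup (Fin (m + 1)) F) * n0 * u)⁻¹ * b' *
            ((b : SpecialLinearGroup (Fin (m + 1)) F) * n0 * u)) * (u : SpecialLinearGroup (Fin (m + 1)) F)⁻¹ := by
        group
      rw [e]
      exact mul_mem (mul_mem u.2 hmem) (inv_mem u.2)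
    have h1 := p1_eq_one_of_conj_rev hn1 hn2 hc hU
    apply Subtype.ext
    have e : (b' : SpecialLinearGroup (Fin (m + 1)) F) =
        b * ((b : SpecialLinearGroup (Fin (m + 1)) F)⁻¹ * b' * b) *
          (b : SpecialLinearGroup (Fin (m + 1)) F)⁻¹ := by group
    rw [e, h1]
    simp

end Cfsg.Agent.SLBlk
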