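import Mathlib
import Cfsg.Agent.SLMin.H5_Intertwiner

set_option autoImplicit false

/-!
# S4538, piece (P3), part a (lead): the abstract rank-one argument

A line `ℂ y` of `U`-fixed vectors on which `B` acts through a linear character: the character
is invariant under the reflection of a rank-one subgroup `ι : SL_2(F) → G`.
-/

namespace Cfsg.Agent.SLBlk

open Matrix Cfsg.Agent.SLMin

theorem l_p3_abs {F : Type*} [Field F] [Fintype F] [DecidableEq F] {G : Type*} [Group G]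
    {V : Type*} [AddCommGroup V] [Module ℂ V] [FiniteDimensional ℂ V]
    (ι : SpecialLinearGroup (Fin 2) F →* G) (ρ : Representation ℂ G V) (U : Subgroup G)
    (y : V) (hy : y ≠ 0)
    (hfix : ∀ v : V, (∀ u ∈ U, ρ u v = v) → ∃ c : ℂ, v = c • y)
    (hU : ∀ u ∈ U, ρ u y = y)
    (hx : ∀ b : F, ι (s7_x b) ∈ U)
    (ϑ : Fˣ → ℂ) (hh : ∀ a : Fˣ, ρ (ι (s7_h a)) y = ϑ a • y)
    (hnorm : ∀ u ∈ U, ∃ π : F ≃ F, ∀ b : F,
      (ι (s7_x (π b) * s7_s))⁻¹ * u * ι (s7_x b * s7_s) ∈ U)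
    (t t' : G) (r : Fˣ) (hconj : ∀ b : F, t * ι (s7_x b) = ι (s7_x ((r : F) * b)) * t)
    (hs : t * ι s7_s = ι s7_s * t') (c c' : ℂ) (ht : ρ t y = c • y) (ht' : ρ t' y = c' • y) :
    c = c' := by
  have hne : (∑ b : F, ρ (ι (s7_x b * s7_s)) y) ≠ 0 :=
    h5_s7_ne (ρ.comp ι) y hy (fun b => hU _ (hx b)) ϑ hh
  have hfixed : ∀ u ∈ U, ρ u (∑ b : F, ρ (ι (s7_x b * s7_s)) y) =
      ∑ b : F, ρ (ι (s7_x b * s7_s)) y := by
    intro u hu
    obtain ⟨π, hπ⟩ := hnorm u hu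
    rw [map_sum]
    refine Fintype.sum_equiv π _ _ (fun b => ?_)
    have h1 : u * ι (s7_x b * s7_s) = ι (s7_x (π b) * s7_s) *
        ((ι (s7_x (π b) * s7_s))⁻¹ * u * ι (s7_x b * s7_s)) := by group
    rw [← h5_rho_mul, h1, h5_rho_mul, hU _ (hπ b)]
  obtain ⟨k, hk⟩ := hfix _ hfixed
  have hk0 : k ≠ 0 := by
    rintro rfl
    exact hne (by rw [hk, zero_smul])
  have h1 := s7_torus ι ρ y t t' r hconj hs c' ht'
  rw [hk, map_smul, ht, smul_smul, smul_smul] at h1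
  have h2 : k * c = c' * k := smul_left_injective ℂ hy h1
  rw [mul_comm] at h2
  exact mul_right_cancel₀ hk0 h2

end Cfsg.Agent.SLBlk
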