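import Mathlib
import Cfsg.Agent.SLBlk.H2_Defs
import Cfsg.Agent.SLMin.H5_Intertwiner

set_option autoImplicit false

/-!
# S4538, piece (P3), part b (lead): the rank-one subgroups of `SL_(m+1)(F)`

The block embedding `SL_2(F) → SL_(m+1)(F)` at the rows and columns `i, i+1`, and the images of
the three kinds of elements `s7_x`, `s7_h`, `s7_s`.
-/

namespace Cfsg.Agent.SLBlk

open Matrix Cfsg.Agent.Lead.SLBN Cfsg.Agent.Helper8.AutSLn Cfsg.Agent.SLMin

variable {F : Type*} [Field F] {m : ℕ}

/-- `Fin 2 ⊕ (the other indices) ≃ n`, the first two going to `a`, `b`. -/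
def l_e {n : Type*} [DecidableEq n] (a b : n) (hab : a ≠ b) :
    Fin 2 ⊕ {k : n // k ≠ a ∧ k ≠ b} ≃ n where
  toFun x := Sum.elim (fun j : Fin 2 => if j = 0 then a else b) (fun k => k.1) x
  invFun k := if h1 : k = a then Sum.inl 0 else if h2 : k = b then Sum.inl 1
    else Sum.inr ⟨k, h1, h2⟩
  left_inv := by
    rintro (j | ⟨k, hk1, hk2⟩)
    · fin_cases j
      · simp
      · simp [hab.symm]
    · simp [hk1, hk2]
  right_inv := by
    intro k
    by_cases h1 : k = a
    · simp [h1]
    · by_cases h2 : k = b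
      · simp [h2, hab.symm]
      · simp [h1, h2]

theorem l_e_symm_left {n : Type*} [DecidableEq n] (a b : n) (hab : a ≠ b) :
    (l_e a b hab).symm a = Sum.inl 0 := by
  rw [Equiv.symm_apply_eq]
  rfl

theorem l_e_symm_right {n : Type*} [DecidableEq n] (a b : n) (hab : a ≠ b) :
    (l_e a b hab).symm b = Sum.inl 1 := by
  rw [Equiv.symm_apply_eq]
  rfl

theorem l_e_symm_other {n : Type*} [DecidableEq n] (a b : n) (hab : a ≠ b) (k : n)
    (h1 : k ≠ a) (h2 : k ≠ b) :
    (l_e a b hab).symm k = Sum.inr ⟨k, h1, h2⟩ := by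
  rw [Equiv.symm_apply_eq]
  rfl

/-- The block matrix `diag(A, 1)` with `A` at the rows and columns `a`, `b`. -/
def l_blkM {n : Type*} [DecidableEq n] (a b : n) (hab : a ≠ b) (A : Matrix (Fin 2) (Fin 2) F) :
    Matrix n n F :=
  (Matrix.fromBlocks A 0 0 (1 : Matrix {k : n // k ≠ a ∧ k ≠ b} {k : n // k ≠ a ∧ k ≠ b} F)).submatrix
    (l_e a b hab).symm (l_e a b hab).symm

theorem l_blkM_apply {n : Type*} [DecidableEq n] (a b : n) (hab : a ≠ b)
    (A : Matrix (Fin 2) (Fin 2) F) (r s : n) :
    l_blkM a b hab A r s =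
      if r = a then (if s = a then A 0 0 else if s = b then A 0 1 else 0)
      else if r = b then (if s = a then A 1 0 else if s = b then A 1 1 else 0)
      else (1 : Matrix n n F) r s := by
  unfold l_blkM
  rw [Matrix.submatrix_apply]
  by_cases hra : r = a
  · subst hra
    rw [if_pos rfl, l_e_symm_left]
    by_cases hsa : s = r
    · subst hsa
      rw [if_pos rfl, l_e_symm_left, Matrix.fromBlocks_apply₁₁]
    · rw [if_neg hsa]
      by_cases hsb : s = b
      · subst hsb
        rw [if_pos rfl, l_e_symm_right, Matrix.fromBlocks_apply₁₁]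
      · rw [if_neg hsb, l_e_symm_other _ _ hab s hsa hsb, Matrix.fromBlocks_apply₁₂]
        rfl
  · rw [if_neg hra]
    by_cases hrb : r = b
    · subst hrb
      rw [if_pos rfl, l_e_symm_right]
      by_cases hsa : s = a
      · subst hsa
        rw [if_pos rfl, l_e_symm_left, Matrix.fromBlocks_apply₁₁]
      · rw [if_neg hsa]
        by_cases hsb : s = r
        · subst hsb
          rw [if_pos rfl, l_e_symm_right, Matrix.fromBlocks_apply₁₁]
        · rw [if_neg hsb, l_e_symm_other _ _ hab s hsa hsb, Matrix.fromBlocks_apply₁₂]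
          rfl
    · rw [if_neg hrb, l_e_symm_other _ _ hab r hra hrb]
      by_cases hsa : s = a
      · subst hsa
        rw [l_e_symm_left, Matrix.fromBlocks_apply₂₁, Matrix.one_apply_ne hra]
        rfl
      · by_cases hsb : s = b
        · subst hsb
          rw [l_e_symm_right, Matrix.fromBlocks_apply₂₁, Matrix.one_apply_ne hrb]
          rfl
        · rw [l_e_symm_other _ _ hab s hsa hsb, Matrix.fromBlocks_apply₂₂]
          by_cases hrs : r = s
          · subst hrs
            rw [Matrix.one_apply_eq, Matrix.one_apply_eq]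
          · rw [Matrix.one_apply_ne hrs, Matrix.one_apply_ne]
            intro h
            exact hrs (congrArg Subtype.val h)

theorem l_blkM_det {n : Type*} [DecidableEq n] [Fintype n] (a b : n) (hab : a ≠ b)
    (A : Matrix (Fin 2) (Fin 2) F) : (l_blkM a b hab A).det = A.det := by
  rw [l_blkM, Matrix.det_submatrix_equiv_self, Matrix.det_fromBlocks_zero₂₁, Matrix.det_one,
    mul_one]

theorem l_blkM_mul {n : Type*} [DecidableEq n] [Fintype n] (a b : n) (hab : a ≠ b)
    (A B : Matrix (Fin 2) (Fin 2) F) :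
    l_blkM a b hab (A * B) = l_blkM a b hab A * l_blkM a b hab B := by
  rw [l_blkM, l_blkM, l_blkM, Matrix.submatrix_mul_equiv, Matrix.fromBlocks_multiply]
  simp

theorem l_blkM_one {n : Type*} [DecidableEq n] (a b : n) (hab : a ≠ b) :
    l_blkM a b hab (1 : Matrix (Fin 2) (Fin 2) F) = 1 := by
  rw [l_blkM, Matrix.fromBlocks_one, Matrix.submatrix_one_equiv]

/-- The rank-one subgroup `SL_2(F) → SL_(m+1)(F)` at the fundamental root `i`. -/
def l_iota (i : Fin m) : SpecialLinearGroup (Fin 2) F →* SLm F m where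
  toFun A := ⟨l_blkM i.castSucc i.succ (adj_ne i) (A : Matrix (Fin 2) (Fin 2) F), by
    rw [l_blkM_det]; exact A.2⟩
  map_one' := Subtype.ext (l_blkM_one _ _ _)
  map_mul' A B := Subtype.ext (l_blkM_mul _ _ _ _ _)

theorem l_iota_apply (i : Fin m) (A : SpecialLinearGroup (Fin 2) F) (r s : Fin (m + 1)) :
    ((l_iota i A : SLm F m) : Matrix (Fin (m + 1)) (Fin (m + 1)) F) r s =
      if r = i.castSucc then
        (if s = i.castSucc then (A : Matrix (Fin 2) (Fin 2) F) 0 0
          else if s = i.succ then (A : Matrix (Fin 2) (Fin 2) F) 0 1 else 0)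
      else if r = i.succ then
        (if s = i.castSucc then (A : Matrix (Fin 2) (Fin 2) F) 1 0
          else if s = i.succ then (A : Matrix (Fin 2) (Fin 2) F) 1 1 else 0)
      else (1 : Matrix (Fin (m + 1)) (Fin (m + 1)) F) r s :=
  l_blkM_apply _ _ _ _ r s

end Cfsg.Agent.SLBlk
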