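import Mathlib
import Cfsg.Agent.SLBlk.L_P3b

set_option autoImplicit false

/-!
# S4538, piece (P3), part c (lead): the matrix relations

Images of `s7_x`, `s7_s`, `s7_h` under the rank-one embedding, the diagonal elements and how they
move across root elements and monomial matrices, and the normalisation of `U` needed for the
intertwiner.
-/

namespace Cfsg.Agent.SLBlk

open Matrix Cfsg.Agent.Lead.SLBN Cfsg.Agent.Helper8.AutSLn Cfsg.Agent.SLMin

variable {F : Type*} [Field F] {m : ℕ}

theorem l_iota_x (i : Fin m) (c : F) : l_iota i (s7_x c) = (xr i c : SLm F m) := by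
  apply Subtype.ext
  ext r s
  rw [l_iota_apply, xr_coe, transvection_apply]
  have hne := adj_ne i
  by_cases hra : r = i.castSucc
  · subst hra
    rw [if_pos rfl]
    by_cases hsa : s = i.castSucc
    · subst hsa
      rw [if_pos rfl, Matrix.one_apply_eq, if_neg (fun h => hne h.2)]
      simp [s7_x]
    · rw [if_neg hsa]
      by_cases hsb : s = i.succ
      · subst hsb
        rw [if_pos rfl, Matrix.one_apply_ne hne, if_pos ⟨rfl, rfl⟩]
        simp [s7_x]
      · rw [if_neg hsb, Matrix.one_apply_ne (Ne.symm hsa), if_neg (fun h => hsb h.2), add_zero]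
  · rw [if_neg hra, if_neg (fun h : r = i.castSucc ∧ s = i.succ => hra h.1), add_zero]
    by_cases hrb : r = i.succ
    · subst hrb
      rw [if_pos rfl]
      by_cases hsa : s = i.castSucc
      · subst hsa
        rw [if_pos rfl, Matrix.one_apply_ne hne.symm]
        simp [s7_x]
      · rw [if_neg hsa]
        by_cases hsb : s = i.succ
        · subst hsb
          rw [if_pos rfl, Matrix.one_apply_eq]
          simp [s7_x]
        · rw [if_neg hsb, Matrix.one_apply_ne (Ne.symm hsb)]
    · rw [if_neg hrb]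

theorem l_iota_s (i : Fin m) : l_iota i s7_s = ((sgen F i)⁻¹ : SLm F m) := by
  apply Subtype.ext
  ext r s
  unfold sgen
  rw [l_iota_apply, wel_inv_apply]
  have hne := adj_ne i
  by_cases hra : r = i.castSucc
  · subst hra
    rw [if_pos rfl, if_pos rfl]
    by_cases hsa : s = i.castSucc
    · subst hsa
      rw [if_pos rfl, if_neg hne]
      simp [s7_s]
    · rw [if_neg hsa]
      by_cases hsb : s = i.succ
      · subst hsb
        rw [if_pos rfl, if_pos rfl]
        simp [s7_s]
      · rw [if_neg hsb, if_neg hsb]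
  · rw [if_neg hra, if_neg hra]
    by_cases hrb : r = i.succ
    · subst hrb
      rw [if_pos rfl, if_pos rfl]
      by_cases hsa : s = i.castSucc
      · subst hsa
        rw [if_pos rfl, if_pos rfl]
        simp [s7_s]
      · rw [if_neg hsa, if_neg hsa]
        by_cases hsb : s = i.succ
        · subst hsb
          rw [if_pos rfl]
          simp [s7_s]
        · rw [if_neg hsb]
    · rw [if_neg hrb, if_neg hrb]

/-- The diagonal element of `SL_(m+1)(F)` with entries `d`. -/
def l_diag (d : Fin (m + 1) → Fˣ) (hd : ∏ k, d k = 1) : SLm F m :=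
  ⟨Matrix.diagonal (fun k => ((d k : Fˣ) : F)), by
    rw [Matrix.det_diagonal, ← Units.coe_prod, hd, Units.val_one]⟩

theorem l_diag_coe (d : Fin (m + 1) → Fˣ) (hd : ∏ k, d k = 1) :
    ((l_diag d hd : SLm F m) : Matrix (Fin (m + 1)) (Fin (m + 1)) F) =
      Matrix.diagonal (fun k => ((d k : Fˣ) : F)) := rfl

theorem l_diag_mem_Bs (d : Fin (m + 1) → Fˣ) (hd : ∏ k, d k = 1) : l_diag d hd ∈ Bs F m := by
  rw [mem_Bs, l_diag_coe]
  exact Matrix.blockTriangular_diagonal _

/-- The entries of `h_i(a)`. -/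
def l_hvec (i : Fin m) (a : Fˣ) : Fin (m + 1) → Fˣ :=
  fun k => if k = i.castSucc then a else if k = i.succ then a⁻¹ else 1

theorem l_hvec_prod (i : Fin m) (a : Fˣ) : ∏ k, l_hvec i a k = 1 := by
  have hne := adj_ne i
  rw [← Finset.mul_prod_erase Finset.univ _ (Finset.mem_univ i.castSucc),
    ← Finset.mul_prod_erase _ _ (Finset.mem_erase.mpr ⟨hne.symm, Finset.mem_univ i.succ⟩),
    Finset.prod_eq_one]
  · simp [l_hvec, hne.symm]
  · intro k hk
    rw [Finset.mem_erase, Finset.mem_erase] at hk
    simp [l_hvec, hk.1, hk.2.1]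

theorem l_iota_h (i : Fin m) (a : Fˣ) :
    l_iota i (s7_h a) = (l_diag (l_hvec i a) (l_hvec_prod i a) : SLm F m) := by
  apply Subtype.ext
  ext r s
  rw [l_iota_apply, l_diag_coe, Matrix.diagonal_apply]
  have hne := adj_ne i
  by_cases hra : r = i.castSucc
  · subst hra
    rw [if_pos rfl]
    by_cases hsa : s = i.castSucc
    · subst hsa
      rw [if_pos rfl, if_pos rfl]
      simp [s7_h, l_hvec]
    · rw [if_neg hsa, if_neg (Ne.symm hsa)]
      by_cases hsb : s = i.succ
      · subst hsb
        rw [if_pos rfl]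
        simp [s7_h]
      · rw [if_neg hsb]
  · rw [if_neg hra]
    by_cases hrb : r = i.succ
    · subst hrb
      rw [if_pos rfl]
      by_cases hsa : s = i.castSucc
      · subst hsa
        rw [if_pos rfl, if_neg hne.symm]
        simp [s7_h]
      · rw [if_neg hsa]
        by_cases hsb : s = i.succ
        · subst hsb
          rw [if_pos rfl, if_pos rfl]
          simp [s7_h, l_hvec, hne.symm]
        · rw [if_neg hsb, if_neg (Ne.symm hsb)]
    · rw [if_neg hrb]
      by_cases hrs : r = s
      · subst hrs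
        rw [Matrix.one_apply_eq, if_pos rfl]
        simp [l_hvec, hra, hrb]
      · rw [Matrix.one_apply_ne hrs, if_neg hrs]

/-- A diagonal element moves across a fundamental root element. -/
theorem l_diag_mul_xr (d : Fin (m + 1) → Fˣ) (hd : ∏ k, d k = 1) (i : Fin m) (c : F) :
    l_diag d hd * xr i c =
      (xr i (((d i.castSucc * (d i.succ)⁻¹ : Fˣ) : F) * c) : SLm F m) * l_diag d hd := by
  apply Subtype.ext
  rw [Matrix.SpecialLinearGroup.coe_mul, Matrix.SpecialLinearGroup.coe_mul, l_diag_coe, xr_coe,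
    xr_coe]
  ext r s
  rw [Matrix.diagonal_mul, Matrix.mul_diagonal, transvection_apply, transvection_apply]
  by_cases hrs : r = s
  · subst hrs
    rw [Matrix.one_apply_eq, if_neg (fun h => adj_ne i (h.1.symm.trans h.2)),
      if_neg (fun h => adj_ne i (h.1.symm.trans h.2))]
    ring
  · rw [Matrix.one_apply_ne hrs]
    by_cases h : r = i.castSucc ∧ s = i.succ
    · obtain ⟨rfl, rfl⟩ := h
      rw [if_pos ⟨rfl, rfl⟩, if_pos ⟨rfl, rfl⟩, Units.val_mul, Units.val_inv_eq_inv_val]
      have h0 : ((d i.succ : Fˣ) : F) ≠ 0 := (d i.succ).ne_zero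
      field_simp
      ring
    · rw [if_neg h, if_neg h]
      ring

/-- A diagonal element moves across a monomial matrix. -/
theorem l_diag_mul_mono (d : Fin (m + 1) → Fˣ) (hd : ∏ k, d k = 1)
    (σ : Equiv.Perm (Fin (m + 1))) (hd' : ∏ k, (d ∘ σ) k = 1) {n : SLm F m}
    (hn : MonoP σ (n : Matrix (Fin (m + 1)) (Fin (m + 1)) F)) :
    l_diag d hd * n = n * l_diag (d ∘ σ) hd' := by
  apply Subtype.ext
  rw [Matrix.SpecialLinearGroup.coe_mul, Matrix.SpecialLinearGroup.coe_mul, l_diag_coe, l_diag_coe]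
  ext r s
  rw [Matrix.diagonal_mul, Matrix.mul_diagonal]
  by_cases hrs : r = σ s
  · rw [hrs, Function.comp_apply, mul_comm]
  · rw [hn r s hrs, mul_zero, zero_mul]

/-- Conjugation by a fundamental reflection keeps in `U` the elements of `U` whose entry at the
fundamental root vanishes. -/
theorem l_conj_sgen_UT (i : Fin m) {w : SLm F m} (hw : w ∈ UT F (m + 1))
    (h0 : (w : Matrix (Fin (m + 1)) (Fin (m + 1)) F) i.castSucc i.succ = 0) :
    sgen F i * w * (sgen F i)⁻¹ ∈ UT F (m + 1) := by
  rw [mem_UT]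
  refine ⟨conj_sgen_mem i hw.1 h0, fun r => ?_⟩
  have h1 := conj_apply (sgen_monoP i) (sgen_inv_monoP i) w r r
  have h2 := conj_apply (sgen_monoP i) (sgen_inv_monoP i) (1 : SLm F m) r r
  rw [(mem_UT.mp hw).2] at h1
  rw [Matrix.SpecialLinearGroup.coe_one, Matrix.one_apply_eq] at h2
  rw [h1, ← h2, mul_one, mul_inv_cancel, Matrix.SpecialLinearGroup.coe_one, Matrix.one_apply_eq]

/-- The normalisation of `U` behind the `U`-invariance of the intertwiner. -/
theorem l_norm_UT (i : Fin m) {u : SLm F m} (hu : u ∈ UT F (m + 1)) (b : F) :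
    (l_iota i (s7_x (b + (u : Matrix (Fin (m + 1)) (Fin (m + 1)) F) i.castSucc i.succ) * s7_s))⁻¹ *
      u * l_iota i (s7_x b * s7_s) ∈ UT F (m + 1) := by
  set c := (u : Matrix (Fin (m + 1)) (Fin (m + 1)) F) i.castSucc i.succ with hc
  rw [map_mul, map_mul, l_iota_x, l_iota_x, l_iota_s]
  have hw : (xr i (-(b + c)) : SLm F m) * u * xr i b ∈ UT F (m + 1) :=
    (UT F (m + 1)).mul_mem ((UT F (m + 1)).mul_mem (xr_mem_UT i _) hu) (xr_mem_UT i _)
  have hu' := mem_UT.mp hu
  have h0 : (((xr i (-(b + c)) : SLm F m) * u * xr i b : SLm F m) :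
      Matrix (Fin (m + 1)) (Fin (m + 1)) F) i.castSucc i.succ = 0 := by
    rw [Matrix.SpecialLinearGroup.coe_mul, Matrix.SpecialLinearGroup.coe_mul, xr_coe, xr_coe,
      Matrix.mul_transvection_apply_same, Matrix.transvection_mul_apply_same,
      Matrix.transvection_mul_apply_same, hu'.2, hu'.2, ← hc,
      hu'.1 (show id i.castSucc < id i.succ from Fin.castSucc_lt_succ)]
    ring
  have h1 := l_conj_sgen_UT i hw h0
  have h2 : ((xr i (b + c) : SLm F m) * (sgen F i)⁻¹)⁻¹ * u * (xr i b * (sgen F i)⁻¹) =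
      sgen F i * ((xr i (-(b + c)) : SLm F m) * u * xr i b) * (sgen F i)⁻¹ := by
    have h3 : (xr i (b + c) : SLm F m)⁻¹ = xr i (-(b + c)) := by
      unfold xr
      rw [SpecialLinearGroup.transvection_inv]
    rw [_root_.mul_inv_rev, inv_inv, h3]
    group
  rw [h2]
  exact h1

end Cfsg.Agent.SLBlk
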