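import Mathlib
import Cfsg.Agent.SLBlk.L_P3a
import Cfsg.Agent.SLBlk.L_P3c
import Cfsg.Agent.Helper6.ClassInner
import Cfsg.Agent.Helper6.Invariants

set_option autoImplicit false

/-!
# S4538, piece (P3), part d (lead): the character of `B` on the line `χ^U` is invariant under the
fundamental reflections
-/

namespace Cfsg.Agent.SLBlk

open Matrix Cfsg Module Cfsg.Agent.Lead.SLBN Cfsg.Agent.Helper8.AutSLn Cfsg.Agent.SLMin
  Cfsg.Agent.Helper6
open scoped ComplexConjugate

/-- An eigenvector from the nonzero multiplicity of a linear character. -/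
theorem l_exists_eigen {H : Type*} [Group H] [Fintype H] {V : Type*} [AddCommGroup V]
    [Module ℂ V] [FiniteDimensional ℂ V] (σ : Representation ℂ H V) (lam : H →* ℂˣ)
    (hin : classInner σ.character (fun h => ((lam h : ℂˣ) : ℂ)) ≠ 0) :
    ∃ y : V, y ≠ 0 ∧ ∀ h : H, σ h y = ((lam h : ℂˣ) : ℂ) • y := by
  classical
  set e : V →ₗ[ℂ] V := ∑ h : H, (((lam h)⁻¹ : ℂˣ) : ℂ) • σ h with he
  have hconj : ∀ h : H, conj ((lam h : ℂˣ) : ℂ) = (((lam h)⁻¹ : ℂˣ) : ℂ) := by
    intro h
    have h1 : ((lam h : ℂˣ) : ℂ) ^ Fintype.card H = 1 := by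
      rw [← Units.val_pow_eq_pow_val, ← map_pow, pow_card_eq_one, map_one, Units.val_one]
    have h2 : ‖((lam h : ℂˣ) : ℂ)‖ = 1 :=
      Complex.norm_eq_one_of_pow_eq_one h1 Fintype.card_ne_zero
    rw [Units.val_inv_eq_inv_val, Complex.inv_eq_conj h2]
  have htr : LinearMap.trace ℂ V e = (Nat.card H : ℂ) *
      classInner σ.character (fun h => ((lam h : ℂˣ) : ℂ)) := by
    rw [classInner_def, ← mul_assoc, mul_inv_cancel₀, one_mul, he, map_sum]
    · refine Finset.sum_congr rfl (fun h _ => ?_)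
      rw [map_smul, smul_eq_mul, hconj, mul_comm]
      rfl
    · rw [Nat.card_eq_fintype_card]
      exact_mod_cast Fintype.card_ne_zero
  have he0 : e ≠ 0 := by
    intro h0
    rw [h0, map_zero] at htr
    rcases mul_eq_zero.mp htr.symm with h | h
    · rw [Nat.card_eq_fintype_card] at h
      exact Fintype.card_ne_zero (Nat.cast_eq_zero.mp h)
    · exact hin h
  obtain ⟨v, hv⟩ : ∃ v, e v ≠ 0 := by
    by_contra hcon
    exact he0 (LinearMap.ext (fun v => not_not.mp (fun hv => hcon ⟨v, hv⟩)))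
  refine ⟨e v, hv, fun h => ?_⟩
  rw [he, LinearMap.sum_apply, map_sum, Finset.smul_sum]
  refine Fintype.sum_equiv (Equiv.mulLeft h) _ _ (fun g => ?_)
  rw [Equiv.coe_mulLeft, LinearMap.smul_apply, LinearMap.smul_apply, map_smul, smul_smul,
    map_mul σ, map_mul lam]
  congr 1
  rw [_root_.mul_inv_rev, Units.val_mul, ← mul_assoc, mul_comm ((lam h : ℂˣ) : ℂ), mul_assoc,
    ← Units.val_mul, mul_inv_cancel, Units.val_one, mul_one]

variable {F : Type*} [Field F] [Fintype F] {m : ℕ}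
variable [Fintype (SLm F m)] [Fintype ↥(Bs F m)] [Fintype ↥(UT F (m + 1))]

theorem l_swap_prod (d : Fin (m + 1) → Fˣ) (hd : ∏ k, d k = 1) (σ : Equiv.Perm (Fin (m + 1))) :
    ∏ k, (d ∘ σ) k = 1 := by
  rw [← hd]
  exact Equiv.prod_comp σ d

/-- The linear character of `B` on the line `χ^U` is invariant under the fundamental
reflections. -/
theorem l_p3_winv (χ : SLm F m → ℂ) (hχ : IsIrrCharacter (SLm F m) χ)
    (hvan : VanU χ) (h1 : χ 1 = (Nat.card ↥(UT F (m + 1)) : ℂ))
    (lam : ↥(Bs F m) →* ℂˣ) (hlam : TrivOnU lam)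
    (hin : classInner (fun b : ↥(Bs F m) => χ b) (fun b => ((lam b : ℂˣ) : ℂ)) ≠ 0)
    (i : Fin m) (d : Fin (m + 1) → Fˣ) (hd : ∏ k, d k = 1) :
    lam ⟨l_diag d hd, l_diag_mem_Bs d hd⟩ =
      lam ⟨l_diag (d ∘ Equiv.swap i.castSucc i.succ) (l_swap_prod d hd _),
        l_diag_mem_Bs _ _⟩ := by
  classical
  obtain ⟨n, ρ, -, hchar⟩ := hχ
  -- the eigenvector
  obtain ⟨σB, hσB⟩ : ∃ σB : Representation ℂ ↥(Bs F m) (Fin n → ℂ),
      σB = ρ.comp (Bs F m).subtype := ⟨_, rfl⟩
  obtain ⟨σU, hσU⟩ : ∃ σU : Representation ℂ ↥(UT F (m + 1)) (Fin n → ℂ),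
      σU = ρ.comp (UT F (m + 1)).subtype := ⟨_, rfl⟩
  have hσBa : ∀ b : ↥(Bs F m), σB b = ρ b := fun b => by rw [hσB]; rfl
  have hσUa : ∀ u : ↥(UT F (m + 1)), σU u = ρ u := fun u => by rw [hσU]; rfl
  have hinB : classInner σB.character (fun b => ((lam b : ℂˣ) : ℂ)) ≠ 0 := by
    have : σB.character = fun b : ↥(Bs F m) => χ b := by
      rw [← hchar, hσB]
      rfl
    rw [this]
    exact hin
  obtain ⟨y, hy, hyB⟩ := l_exists_eigen σB lam hinB
  have hyB' : ∀ (b : SLm F m) (hb : b ∈ Bs F m), ρ b y = ((lam ⟨b, hb⟩ : ℂˣ) : ℂ) • y := by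
    intro b hb
    rw [← hyB ⟨b, hb⟩, hσBa]
  have hU : ∀ u ∈ UT F (m + 1), ρ u y = y := by
    intro u hu
    rw [hyB' u (UT_le_Bs hu), hlam ⟨u, UT_le_Bs hu⟩ hu, Units.val_one, one_smul]
  -- the invariants of `U` are a line
  have hrank : finrank ℂ (Representation.invariants σU) = 1 := by
    have h2 := classInner_one_eq_finrank_invariants σU
    have h3 : classInner σU.character (fun _ => 1) = 1 := by
      rw [classInner_def, Finset.sum_eq_single (1 : ↥(UT F (m + 1)))]
      · have h4 : σU.character 1 = χ 1 := by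
          rw [← hchar, hσU]
          rfl
        rw [h4, h1, map_one, mul_one, inv_mul_cancel₀]
        rw [Nat.card_eq_fintype_card]
        exact_mod_cast Fintype.card_ne_zero
      · intro u _ hu
        have h4 : σU.character u = χ u := by
          rw [← hchar, hσU]
          rfl
        rw [h4, hvan u u.2 (fun h => hu (Subtype.ext h)), zero_mul]
      · intro h
        exact absurd (Finset.mem_univ _) h
    rw [h3] at h2
    exact_mod_cast h2.symm
  have hyinv : y ∈ Representation.invariants σU := by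
    rw [Representation.mem_invariants]
    intro u
    rw [hσUa]
    exact hU u u.2
  have hfix : ∀ v : Fin n → ℂ, (∀ u ∈ UT F (m + 1), ρ u v = v) → ∃ c : ℂ, v = c • y := by
    intro v hv
    have hvinv : v ∈ Representation.invariants σU := by
      rw [Representation.mem_invariants]
      intro u
      rw [hσUa]
      exact hv u u.2
    have hne : (⟨y, hyinv⟩ : Representation.invariants σU) ≠ 0 := by
      intro h
      exact hy (congrArg Subtype.val h)
    obtain ⟨c, hc⟩ := (finrank_eq_one_iff_of_nonzero' _ hne).mp hrank ⟨v, hvinv⟩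
    exact ⟨c, (congrArg Subtype.val hc).symm⟩
  -- the abstract argument
  have hσ : MonoP (Equiv.swap i.castSucc i.succ)
      (((sgen F i)⁻¹ : SLm F m) : Matrix (Fin (m + 1)) (Fin (m + 1)) F) := by
    have := sgen_inv_monoP (F := F) i
    rw [Equiv.swap_inv] at this
    exact this
  have key := l_p3_abs (l_iota i) ρ (UT F (m + 1)) y hy hfix hU
    (fun b => by rw [l_iota_x]; exact xr_mem_UT i b)
    (fun a => ((lam ⟨l_diag (l_hvec i a) (l_hvec_prod i a), l_diag_mem_Bs _ _⟩ : ℂˣ) : ℂ))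
    (fun a => by rw [l_iota_h]; exact hyB' _ _)
    (fun u hu => ⟨Equiv.addRight ((u : Matrix (Fin (m + 1)) (Fin (m + 1)) F) i.castSucc i.succ),
      fun b => l_norm_UT i hu b⟩)
    (l_diag d hd) (l_diag (d ∘ Equiv.swap i.castSucc i.succ) (l_swap_prod d hd _))
    (d i.castSucc * (d i.succ)⁻¹)
    (fun b => by rw [l_iota_x, l_iota_x]; exact l_diag_mul_xr d hd i b)
    (by rw [l_iota_s]; exact l_diag_mul_mono d hd _ _ hσ)
    _ _ (hyB' _ (l_diag_mem_Bs d hd)) (hyB' _ (l_diag_mem_Bs _ _))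
  exact Units.ext key

end Cfsg.Agent.SLBlk
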