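import Mathlib
import Cfsg.Agent.SLBlk.L_P3d

set_option autoImplicit false

/-!
# S4538, piece (P3), part e (lead): a linear character of `B`, trivial on `U` and invariant under
the fundamental reflections, is trivial when `n ≥ 3`; the statement (P3)
-/

namespace Cfsg.Agent.SLBlk

open Matrix Cfsg Module Cfsg.Agent.Lead.SLBN Cfsg.Agent.Helper8.AutSLn Cfsg.Agent.SLMin

variable {F : Type*} [Field F] {m : ℕ}

theorem l_diag_mul (d d' : Fin (m + 1) → Fˣ) (hd : ∏ k, d k = 1) (hd' : ∏ k, d' k = 1)
    (hdd : ∏ k, (d * d') k = 1) :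
    (l_diag d hd : SLm F m) * l_diag d' hd' = l_diag (d * d') hdd := by
  apply Subtype.ext
  rw [Matrix.SpecialLinearGroup.coe_mul, l_diag_coe, l_diag_coe, l_diag_coe,
    Matrix.diagonal_mul_diagonal]
  congr 1

theorem l_diag_congr {d d' : Fin (m + 1) → Fˣ} (h : d = d') (hd : ∏ k, d k = 1)
    (hd' : ∏ k, d' k = 1) : (l_diag d hd : SLm F m) = l_diag d' hd' := by
  subst h
  rfl

theorem l_prod_mul (d d' : Fin (m + 1) → Fˣ) (hd : ∏ k, d k = 1) (hd' : ∏ k, d' k = 1) :
    ∏ k, (d * d') k = 1 := by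
  simp only [Pi.mul_apply]
  rw [Finset.prod_mul_distrib, hd, hd', one_mul]

/-- `lam (h_i(a)) = 1` from the invariance, when there is a third index. -/
theorem l_lam_h (hm : 2 ≤ m) (lam : ↥(Bs F m) →* ℂˣ)
    (hW : ∀ (i : Fin m) (d : Fin (m + 1) → Fˣ) (hd : ∏ k, d k = 1)
      (hd' : ∏ k, (d ∘ Equiv.swap i.castSucc i.succ) k = 1),
      lam ⟨l_diag d hd, l_diag_mem_Bs d hd⟩ =
        lam ⟨l_diag (d ∘ Equiv.swap i.castSucc i.succ) hd', l_diag_mem_Bs _ _⟩)
    (i : Fin m) (a : Fˣ) :
    lam ⟨l_diag (l_hvec i a) (l_hvec_prod i a), l_diag_mem_Bs _ _⟩ = 1 := by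
  have hne := adj_ne i
  -- a third index
  obtain ⟨j, hj1, hj2⟩ : ∃ j : Fin (m + 1), j ≠ i.castSucc ∧ j ≠ i.succ := by
    by_cases hi : (i : ℕ) = 0
    · refine ⟨Fin.last m, ?_, ?_⟩
      · intro h
        have := congrArg Fin.val h
        simp only [Fin.val_last, Fin.val_castSucc] at this
        omega
      · intro h
        have := congrArg Fin.val h
        simp only [Fin.val_last, Fin.val_succ] at this
        omega
    · refine ⟨0, ?_, ?_⟩
      · intro h
        have := congrArg Fin.val h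
        simp only [Fin.val_zero, Fin.val_castSucc] at this
        omega
      · intro h
        have := congrArg Fin.val h
        simp only [Fin.val_zero, Fin.val_succ] at this
        omega
  set σ := Equiv.swap i.castSucc i.succ with hσ
  -- `d = (a at i, a⁻¹ at j)`
  set d : Fin (m + 1) → Fˣ := fun k => if k = i.castSucc then a else if k = j then a⁻¹ else 1
    with hd_def
  have hdσ : d ∘ σ = fun k => if k = i.succ then a else if k = j then a⁻¹ else 1 := by
    funext k
    rw [Function.comp_apply, hd_def]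
    by_cases hk1 : k = i.castSucc
    · subst hk1
      rw [hσ, Equiv.swap_apply_left]
      simp only [if_neg hne.symm, if_neg hne, if_neg hj2.symm, if_neg hj1.symm]
    · by_cases hk2 : k = i.succ
      · subst hk2
        rw [hσ, Equiv.swap_apply_right]
        simp only [if_true]
      · rw [hσ, Equiv.swap_apply_of_ne_of_ne hk1 hk2]
        simp only [if_neg hk1, if_neg hk2]
  have hfac : d = l_hvec i a * (d ∘ σ) := by
    rw [hdσ]
    funext k
    rw [Pi.mul_apply, hd_def]
    unfold l_hvec
    by_cases hk1 : k = i.castSucc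
    · subst hk1
      simp only [if_true, if_neg hne, if_neg hj1.symm, mul_one]
    · by_cases hk2 : k = i.succ
      · subst hk2
        simp only [if_true, if_neg hne.symm, if_neg hj2.symm, inv_mul_cancel]
      · by_cases hk3 : k = j
        · subst hk3
          simp only [if_true, if_neg hk1, if_neg hk2, one_mul]
        · simp only [if_neg hk1, if_neg hk2, if_neg hk3, one_mul]
  have hd : ∏ k, d k = 1 := by
    rw [← Finset.mul_prod_erase Finset.univ _ (Finset.mem_univ i.castSucc),
      ← Finset.mul_prod_erase _ _ (Finset.mem_erase.mpr ⟨hj1, Finset.mem_univ j⟩),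
      Finset.prod_eq_one]
    · simp only [hd_def, if_true, if_neg hj1, mul_one, mul_inv_cancel]
    · intro k hk
      rw [Finset.mem_erase, Finset.mem_erase] at hk
      simp only [hd_def, if_neg hk.2.1, if_neg hk.1]
  have hd' : ∏ k, (d ∘ σ) k = 1 := by
    rw [← hd]
    exact Equiv.prod_comp σ d
  have h1 := hW i d hd hd'
  have h2 : (⟨l_diag d hd, l_diag_mem_Bs d hd⟩ : ↥(Bs F m)) =
      ⟨l_diag (l_hvec i a) (l_hvec_prod i a), l_diag_mem_Bs _ _⟩ *
        ⟨l_diag (d ∘ σ) hd', l_diag_mem_Bs _ _⟩ := by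
    apply Subtype.ext
    rw [Subgroup.coe_mul]
    change l_diag d hd = l_diag (l_hvec i a) (l_hvec_prod i a) * l_diag (d ∘ σ) hd'
    rw [l_diag_mul _ _ _ _ (l_prod_mul _ _ (l_hvec_prod i a) hd')]
    exact l_diag_congr hfac _ _
  rw [h2, map_mul] at h1
  exact mul_eq_right.mp h1

end Cfsg.Agent.SLBlk
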