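import Mathlib
import Cfsg.Agent.SLBlk.L_P3e

set_option autoImplicit false

/-!
# S4538, piece (P3), part f (lead): the statement (P3)

For `n = m + 1 ≥ 3`, the linear character of `B` on the line `χ^U` of a character `χ` of degree
`|U|` vanishing on `U ∖ 1` is trivial.
-/

namespace Cfsg.Agent.SLBlk

open Matrix Cfsg Module Cfsg.Agent.Lead.SLBN Cfsg.Agent.Helper8.AutSLn Cfsg.Agent.SLMin

variable {F : Type*} [Field F] {m : ℕ}

/-- `lam` is trivial on the diagonal elements supported on `{0, …, j}`. -/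
theorem l_lam_diag_aux (lam : ↥(Bs F m) →* ℂˣ)
    (hh : ∀ (i : Fin m) (a : Fˣ),
      lam ⟨l_diag (l_hvec i a) (l_hvec_prod i a), l_diag_mem_Bs _ _⟩ = 1) :
    ∀ j : ℕ, j ≤ m → ∀ (d : Fin (m + 1) → Fˣ) (hd : ∏ k, d k = 1),
      (∀ k : Fin (m + 1), j < (k : ℕ) → d k = 1) →
      lam ⟨l_diag d hd, l_diag_mem_Bs d hd⟩ = 1 := by
  intro j
  induction j with
  | zero =>
    intro _ d hd hsupp
    have hd1 : d = 1 := by
      funext k
      by_cases hk : (k : ℕ) = 0
      · have h1 : ∏ k', d k' = d k := by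
          apply Finset.prod_eq_single k
          · intro k' _ hk'
            apply hsupp
            have h2 : (k' : ℕ) ≠ (k : ℕ) := fun h => hk' (Fin.ext h)
            omega
          · intro h
            exact absurd (Finset.mem_univ _) h
        rw [← h1, hd]
        rfl
      · exact hsupp k (by omega)
    have h3 : (⟨l_diag d hd, l_diag_mem_Bs d hd⟩ : ↥(Bs F m)) = 1 := by
      apply Subtype.ext
      apply Subtype.ext
      change ((l_diag d hd : SLm F m) : Matrix (Fin (m + 1)) (Fin (m + 1)) F) = 1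
      rw [l_diag_coe, hd1]
      simp
    rw [h3, map_one]
  | succ j ih =>
    intro hj d hd hsupp
    obtain ⟨i, hi⟩ : ∃ i : Fin m, (i : ℕ) = j := ⟨⟨j, by omega⟩, rfl⟩
    have hic : ((i.castSucc : Fin (m + 1)) : ℕ) = j := by rw [Fin.val_castSucc, hi]
    have his : ((i.succ : Fin (m + 1)) : ℕ) = j + 1 := by rw [Fin.val_succ, hi]
    have hd' := l_prod_mul d (l_hvec i (d i.succ)) hd (l_hvec_prod i (d i.succ))
    have h1 : lam ⟨l_diag (d * l_hvec i (d i.succ)) hd', l_diag_mem_Bs _ _⟩ = 1 := by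
      apply ih (by omega)
      intro k hk
      rw [Pi.mul_apply]
      unfold l_hvec
      by_cases hk2 : k = i.succ
      · subst hk2
        rw [if_neg (adj_ne i).symm, if_pos rfl]
        exact mul_inv_cancel _
      · have hk1 : k ≠ i.castSucc := by
          intro h
          rw [h, hic] at hk
          exact lt_irrefl _ hk
        rw [if_neg hk1, if_neg hk2, mul_one]
        apply hsupp
        have h2 : (k : ℕ) ≠ j + 1 := fun h => hk2 (Fin.ext (h.trans his.symm))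
        omega
    have h2 : (⟨l_diag (d * l_hvec i (d i.succ)) hd', l_diag_mem_Bs _ _⟩ : ↥(Bs F m)) =
        ⟨l_diag d hd, l_diag_mem_Bs d hd⟩ *
          ⟨l_diag (l_hvec i (d i.succ)) (l_hvec_prod i (d i.succ)), l_diag_mem_Bs _ _⟩ := by
      apply Subtype.ext
      rw [Subgroup.coe_mul]
      exact (l_diag_mul d (l_hvec i (d i.succ)) hd (l_hvec_prod i (d i.succ)) hd').symm
    rw [h2, map_mul, hh, mul_one] at h1
    exact h1

/-- A linear character of `B` trivial on `U` and on the diagonal elements is trivial. -/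
theorem l_lam_eq_one (lam : ↥(Bs F m) →* ℂˣ) (hlam : TrivOnU lam)
    (hdiag : ∀ (d : Fin (m + 1) → Fˣ) (hd : ∏ k, d k = 1),
      lam ⟨l_diag d hd, l_diag_mem_Bs d hd⟩ = 1) : lam = 1 := by
  apply MonoidHom.ext
  rintro ⟨b, hb⟩
  obtain ⟨d, hddef⟩ : ∃ d : Fin (m + 1) → Fˣ, ∀ k, ((d k : Fˣ) : F) =
      (b : Matrix (Fin (m + 1)) (Fin (m + 1)) F) k k :=
    ⟨fun k => Units.mk0 _ (diag_ne_zero hb k), fun k => rfl⟩
  have hd : ∏ k, d k = 1 := by
    apply Units.ext
    rw [Units.coe_prod, Units.val_one]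
    have hdet := Matrix.det_of_isUpperTriangular
      (M := (b : Matrix (Fin (m + 1)) (Fin (m + 1)) F)) hb
    rw [b.2] at hdet
    rw [hdet]
    exact Finset.prod_congr rfl (fun k _ => hddef k)
  have hti : ((l_diag d hd : SLm F m)⁻¹) ∈ Bs F m := (Bs F m).inv_mem (l_diag_mem_Bs d hd)
  have hu : (l_diag d hd : SLm F m)⁻¹ * b ∈ UT F (m + 1) := by
    rw [mem_UT]
    refine ⟨(Bs F m).mul_mem hti hb, fun k => ?_⟩
    rw [Matrix.SpecialLinearGroup.coe_mul, diag_mul_of_upper hti hb]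
    have h3 := diag_mul_of_upper hti (l_diag_mem_Bs d hd) k
    rw [coe_inv_mul, Matrix.one_apply_eq, l_diag_coe, Matrix.diagonal_apply_eq, hddef] at h3
    exact h3.symm
  have h4 : (⟨b, hb⟩ : ↥(Bs F m)) = ⟨l_diag d hd, l_diag_mem_Bs d hd⟩ *
      ⟨(l_diag d hd : SLm F m)⁻¹ * b, UT_le_Bs hu⟩ := by
    apply Subtype.ext
    rw [Subgroup.coe_mul]
    change b = l_diag d hd * ((l_diag d hd : SLm F m)⁻¹ * b)
    rw [mul_inv_cancel_left]
  rw [h4, map_mul, hdiag, hlam _ hu, one_mul]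
  rfl

variable [Fintype F]
variable [Fintype (SLm F m)] [Fintype ↥(Bs F m)] [Fintype ↥(UT F (m + 1))]

/-- (P3) `n ≥ 3`. -/
theorem p3_lam_trivial (hm : 2 ≤ m) (χ : SLm F m → ℂ) (hχ : IsIrrCharacter (SLm F m) χ)
    (hvan : VanU χ) (h1 : χ 1 = (Nat.card ↥(UT F (m + 1)) : ℂ))
    (lam : ↥(Bs F m) →* ℂˣ) (hlam : TrivOnU lam)
    (hin : classInner (fun b : ↥(Bs F m) => χ b) (fun b => ((lam b : ℂˣ) : ℂ)) ≠ 0) :
    lam = 1 := by
  have hW : ∀ (i : Fin m) (d : Fin (m + 1) → Fˣ) (hd : ∏ k, d k = 1)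
      (hd' : ∏ k, (d ∘ Equiv.swap i.castSucc i.succ) k = 1),
      lam ⟨l_diag d hd, l_diag_mem_Bs d hd⟩ =
        lam ⟨l_diag (d ∘ Equiv.swap i.castSucc i.succ) hd', l_diag_mem_Bs _ _⟩ :=
    fun i d hd _ => l_p3_winv χ hχ hvan h1 lam hlam hin i d hd
  exact l_lam_eq_one lam hlam (fun d hd =>
    l_lam_diag_aux lam (l_lam_h hm lam hW) m le_rfl d hd
      (fun k hk => absurd k.2 (by omega)))

end Cfsg.Agent.SLBlk
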