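import Mathlib
import Cfsg.Agent.SLBlk.L_P3f

/-!
# S4538, piece (P3) (lead): `p3_lam_trivial`

The theorem `Cfsg.Agent.SLBlk.p3_lam_trivial` is proved in `SLBlk/L_P3f.lean` (parts a–f); this
file only gives the module name expected by the assembly.
-/
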