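import Mathlib
import Cfsg.Agent.SLBlk.H2_P4
import Cfsg.Agent.SLBlk.H2_P0
import Cfsg.Agent.SLBlk.H8_P1
import Cfsg.Agent.SLBlk.L_P3
import Cfsg.Agent.SLBlk.H4_P3two
import Cfsg.Agent.SLBlk.H3_Asm
import Cfsg.Agent.Lead.SLBND

set_option autoImplicit false

/-!
# S4538 / S2440, piece ASM-1 (helper2): exactly one block of defect zero in `SL_n(q)`

Uniqueness of the irreducible character vanishing on `U ∖ 1` (pieces P1, P2, P3, P3′, P4),
existence = lead's Steinberg character `exists_steinberg_SL`, block glue = helper3's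
`h3_card_defect_zero`.
-/

namespace Cfsg.Agent.SLBlk

open Matrix Cfsg Cfsg.Agent.Lead.SLBN Cfsg.Agent.Helper8.AutSLn Cfsg.Agent.Helper6

variable {F : Type*} [Field F] [Fintype F] {m : ℕ}

section fin

variable [Fintype (SLm F m)] [Fintype ↥(Bs F m)] [Fintype ↥(UT F (m + 1))]

/-- (P4) two irreducible characters of `SL_{m+1}(F)`, `m ≥ 1`, vanishing on `U ∖ 1` coincide. -/
theorem p4_unique_van (hm : 1 ≤ m) (χ χ' : SLm F m → ℂ)
    (hχ : IsIrrCharacter (SLm F m) χ) (hχ' : IsIrrCharacter (SLm F m) χ')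
    (hvan : VanU χ) (hvan' : VanU χ') : χ = χ' := by
  have hP1 : P1Stmt F m := fun lam hlam ψ hψ k hk => p1_inter lam hlam ψ hψ k hk
  have hP3 : P3Stmt F m := by
    intro χ hχ hvan h1 lam hlamU hin
    rcases Nat.lt_or_ge m 2 with h | h
    · obtain rfl : m = 1 := by omega
      exact p3_lam_trivial_two χ hχ h1 lam hlamU hin
    · exact p3_lam_trivial h χ hχ hvan h1 lam hlamU hin
  exact p4_unique_van_of hP1 hP3 χ χ' hχ hχ' hvan hvan'

end fin

/-- an element of `U` other than `1` is `p`-singular. -/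
theorem p4_dvd_orderOf (p : ℕ) [Fact p.Prime] [CharP F p] (u : SLm F m)
    (hu : u ∈ UT F (m + 1)) (hu1 : u ≠ 1) : p ∣ orderOf u := by
  obtain ⟨k, hk⟩ := (IsPGroup.iff_orderOf.mp (isPGroup_UT (F := F) (k := m + 1) p)) ⟨u, hu⟩
  rw [Subgroup.orderOf_mk] at hk
  rw [hk]
  apply dvd_pow_self
  rintro rfl
  rw [pow_zero, orderOf_eq_one_iff] at hk
  exact hu1 hk

/-- (P4) with the defect hypotheses. -/
theorem p4_unique [Fintype (SLm F m)] [Fintype ↥(Bs F m)] [Fintype ↥(UT F (m + 1))]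
    (hm : 1 ≤ m) (p : ℕ) [Fact p.Prime] [CharP F p] (χ χ' : SLm F m → ℂ)
    (hχ : IsIrrCharacter (SLm F m) χ) (hχ' : IsIrrCharacter (SLm F m) χ')
    (hdef : (charDegree χ).factorization p = (Nat.card (SLm F m)).factorization p)
    (hdef' : (charDegree χ').factorization p = (Nat.card (SLm F m)).factorization p) :
    χ = χ' :=
  p4_unique_van hm χ χ' hχ hχ' (p0_vanish p χ hχ hdef) (p0_vanish p χ' hχ' hdef')

/-- (ASM-1) first conjunct of S4538. -/
theorem asm_defect_zero_unique {F : Type*} [Field F] [Fintype F] (n : ℕ) (hn : 2 ≤ n) (p : ℕ)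
    [Fact p.Prime] [CharP F p] (M : Ideal Cfsg.AlgInt) (hM : Cfsg.IsPModular p M) :
    Nat.card {B : Set (Cfsg.IrrCharacter (Matrix.SpecialLinearGroup (Fin n) F)) //
      Cfsg.IsPBlock M B ∧ Cfsg.blockDefect p B = 0} = 1 := by
  classical
  have hp : p.Prime := Fact.out
  obtain ⟨m, rfl⟩ : ∃ m, n = m + 1 := ⟨n - 1, by omega⟩
  have hm : 1 ≤ m := by omega
  haveI : Fintype (SLm F m) := Fintype.ofFinite _
  haveI : Fintype ↥(Bs F m) := Fintype.ofFinite _
  haveI : Fintype ↥(UT F (m + 1)) := Fintype.ofFinite _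
  obtain ⟨χ0, hirr0, h1, -⟩ := exists_steinberg_SL (F := F) m
  have hdeg : charDegree χ0 = Nat.card (UT F (m + 1)) := by
    unfold charDegree
    rw [h1, Complex.natCast_re, Nat.floor_natCast]
  have h0 : ¬ p ∣ Nat.card (SLm F m) / charDegree χ0 := by
    rw [hdeg]
    have hidx := not_dvd_index_UT (F := F) p (m + 1)
    have hcard : Nat.card (UT F (m + 1)) * (UT F (m + 1)).index = Nat.card (SLm F m) :=
      Subgroup.card_mul_index _
    rw [← hcard, Nat.mul_div_cancel_left _ Nat.card_pos]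
    exact hidx
  have hvan0 : VanU χ0 := by
    intro u hu hu1
    have hsing := blockOf_eq_singleton_of_not_dvd hM.2.1 p hp hM.2.2 ⟨χ0, hirr0⟩ h0
    exact vanish_of_blockOf_eq_singleton hM.2.1 p hM.2.2 ⟨χ0, hirr0⟩ hsing u
      (p4_dvd_orderOf p u hu hu1)
  refine h3_card_defect_zero p M hM ⟨χ0, hirr0⟩ h0 ?_
  intro χ hχv
  apply Subtype.ext
  apply p4_unique_van hm (χ : SLm F m → ℂ) χ0 χ.2 hirr0 ?_ hvan0
  intro u hu hu1
  exact hχv u (p4_dvd_orderOf p u hu hu1)

end Cfsg.Agent.SLBlk
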