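import Mathlib
import Cfsg.Agent.Lead.SLBND
import Cfsg.Agent.SLBlk.H3_Asm
import Cfsg.Agent.S0953
import Cfsg.Agent.Helper7.LinearCard

set_option autoImplicit false

/-!
# The number of blocks of full defect of `SL_{m+1}(F)` (helper3)

`h3_count_full`: for `F` finite of characteristic `p` and `m ≥ 1`, the number of `p`-blocks of
`SL_{m+1}(F)` of full defect is `gcd (m+1) (|F| - 1)`, the order of the centre: by S0953 it is the
number of classes of `p`-regular elements of `N(U)` centralizing the Sylow subgroup `U` of upper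
unitriangular matrices, and such elements are central (`h3_central_of_regular`).
-/

namespace Cfsg.Agent.SLBlk

open Matrix Cfsg Cfsg.Agent.Helper8.AutSLn Cfsg.Agent.Lead.SLBN

variable {F : Type*} [Field F] {m : ℕ}

theorem h3_zero_ne_last (hm : 1 ≤ m) : (0 : Fin (m + 1)) ≠ Fin.last m := by
  intro h
  have := congrArg Fin.val h
  simp at this
  omega

theorem h3_pow_shape (hm : 1 ≤ m) (c x : F) (j : ℕ) :
    (c • (1 : Matrix (Fin (m + 1)) (Fin (m + 1)) F) +
        x • Matrix.single 0 (Fin.last m) (1 : F)) ^ (j + 1) =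
      (c ^ (j + 1)) • (1 : Matrix (Fin (m + 1)) (Fin (m + 1)) F) +
        (((j + 1 : ℕ) : F) * c ^ j * x) • Matrix.single 0 (Fin.last m) (1 : F) := by
  have hSS : Matrix.single (0 : Fin (m + 1)) (Fin.last m) (1 : F) *
      Matrix.single (0 : Fin (m + 1)) (Fin.last m) (1 : F) = 0 :=
    Matrix.single_mul_single_of_ne _ _ _ _ (h3_zero_ne_last hm).symm _
  induction j with
  | zero => simp
  | succ j ih =>
    rw [pow_succ, ih]
    simp only [Matrix.add_mul, Matrix.mul_add, Matrix.smul_mul, Matrix.mul_smul, Matrix.one_mul,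
      Matrix.mul_one, hSS, smul_zero, add_zero, smul_smul]
    push_cast
    module

/-- a transvection above the diagonal is unitriangular -/
theorem h3_tr_mem_UT {a b : Fin (m + 1)} (hab : a ≠ b) (hlt : a < b) (c : F) :
    SpecialLinearGroup.transvection hab c ∈ UT F (m + 1) := by
  rw [mem_UT]
  constructor
  · intro r s hsr
    change s < r at hsr
    rw [tr_coe, transvection_apply, one_apply_ne (ne_of_gt hsr), if_neg, add_zero]
    rintro ⟨rfl, rfl⟩
    exact lt_asymm hlt hsr
  · intro i
    rw [tr_coe, transvection_apply, one_apply_eq, if_neg, add_zero]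
    rintro ⟨rfl, rfl⟩
    exact hab rfl

/-- the shape of a matrix commuting with all upper unitriangular transvections -/
theorem h3_shape (hm : 1 ≤ m) (A : Matrix (Fin (m + 1)) (Fin (m + 1)) F)
    (hA : ∀ a b : Fin (m + 1), a < b → A * Matrix.transvection a b 1 = Matrix.transvection a b 1 * A) :
    A = (A 0 0) • (1 : Matrix (Fin (m + 1)) (Fin (m + 1)) F) +
      (A 0 (Fin.last m)) • Matrix.single 0 (Fin.last m) (1 : F) := by
  have h0l : (0 : Fin (m + 1)) ≠ Fin.last m := by
    intro h
    have := congrArg Fin.val h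
    simp at this
    omega
  -- the basic relation
  have key : ∀ a b : Fin (m + 1), a < b → ∀ r s : Fin (m + 1),
      A r a * (if s = b then 1 else 0) = (if r = a then 1 else 0) * A b s := by
    intro a b hab r s
    have h1 := congrFun (congrFun (hA a b hab) r) s
    unfold Matrix.transvection at h1
    rw [Matrix.mul_add, Matrix.add_mul, Matrix.mul_one, Matrix.one_mul, Matrix.add_apply,
      Matrix.add_apply, add_right_inj] at h1
    rw [Matrix.mul_apply, Matrix.mul_apply] at h1
    simp only [Matrix.single_apply] at h1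
    rw [Finset.sum_eq_single a, Finset.sum_eq_single b] at h1
    · simpa [eq_comm] using h1
    · intro t _ ht
      rw [if_neg, zero_mul]
      rintro ⟨-, h⟩
      exact ht h.symm
    · intro h; exact absurd (Finset.mem_univ _) h
    · intro t _ ht
      rw [if_neg, mul_zero]
      rintro ⟨h, -⟩
      exact ht h.symm
    · intro h; exact absurd (Finset.mem_univ _) h
  have hdiag : ∀ b : Fin (m + 1), A b b = A 0 0 := by
    intro b
    by_cases hb : b = 0
    · rw [hb]
    · have hlt : (0 : Fin (m + 1)) < b := Fin.pos_iff_ne_zero.mpr hb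
      have := key 0 b hlt 0 b
      simpa using this.symm
  have hoff : ∀ r s : Fin (m + 1), r ≠ s → ¬ (r = 0 ∧ s = Fin.last m) → A r s = 0 := by
    intro r s hrs hne
    by_cases hs : s = Fin.last m
    · have hr0 : r ≠ 0 := fun h => hne ⟨h, hs⟩
      have hlt : (0 : Fin (m + 1)) < r := Fin.pos_iff_ne_zero.mpr hr0
      have := key 0 r hlt 0 s
      rw [if_neg (fun h => hrs h.symm), mul_zero, if_pos rfl, one_mul] at this
      exact this.symm
    · have hlt : s < Fin.last m := lt_of_le_of_ne (Fin.le_last s) hs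
      have := key s (Fin.last m) hlt r (Fin.last m)
      rw [if_pos rfl, mul_one, if_neg hrs, zero_mul] at this
      exact this
  ext r s
  rw [Matrix.add_apply, Matrix.smul_apply, Matrix.smul_apply, Matrix.single_apply, smul_eq_mul,
    smul_eq_mul]
  by_cases hrs : r = s
  · subst hrs
    rw [one_apply_eq, mul_one, hdiag, if_neg, mul_zero, add_zero]
    rintro ⟨h1, h2⟩
    exact h0l (h1.trans h2.symm)
  · rw [one_apply_ne hrs, mul_zero, zero_add]
    by_cases h : r = 0 ∧ s = Fin.last m
    · rw [if_pos ⟨h.1.symm, h.2.symm⟩, mul_one, h.1, h.2]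
    · rw [if_neg (fun h' => h ⟨h'.1.symm, h'.2.symm⟩), mul_zero]
      exact hoff r s hrs h

/-- a `p`-regular element centralizing the unitriangular group is central -/
theorem h3_central_of_regular (p : ℕ) [Fact p.Prime] [CharP F p] (hm : 1 ≤ m)
    (g : SpecialLinearGroup (Fin (m + 1)) F)
    (hc : ∀ u ∈ UT F (m + 1), g * u = u * g) (hfin : IsOfFinOrder g) (hreg : ¬ p ∣ orderOf g) :
    g ∈ Subgroup.center (SpecialLinearGroup (Fin (m + 1)) F) := by
  set A : Matrix (Fin (m + 1)) (Fin (m + 1)) F := (g : Matrix (Fin (m + 1)) (Fin (m + 1)) F)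
    with hAdef
  have h0l := h3_zero_ne_last hm
  have hA : ∀ a b : Fin (m + 1), a < b →
      A * Matrix.transvection a b 1 = Matrix.transvection a b 1 * A := by
    intro a b hab
    have h1 := hc _ (h3_tr_mem_UT (F := F) (ne_of_lt hab) hab 1)
    have h2 := congrArg (fun z : SpecialLinearGroup (Fin (m + 1)) F =>
      (z : Matrix (Fin (m + 1)) (Fin (m + 1)) F)) h1
    simpa only [Matrix.SpecialLinearGroup.coe_mul, tr_coe] using h2
  have hsh := h3_shape hm A hA
  set c := A 0 0 with hc0
  set x := A 0 (Fin.last m) with hx0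
  have hk : 0 < orderOf g := hfin.orderOf_pos
  obtain ⟨j, hj⟩ : ∃ j, orderOf g = j + 1 := ⟨orderOf g - 1, by omega⟩
  have hpow : A ^ (j + 1) = 1 := by
    have h1 : g ^ (j + 1) = 1 := by rw [← hj]; exact pow_orderOf_eq_one g
    have h2 := congrArg (fun z : SpecialLinearGroup (Fin (m + 1)) F =>
      (z : Matrix (Fin (m + 1)) (Fin (m + 1)) F)) h1
    simpa only [Matrix.SpecialLinearGroup.coe_pow, Matrix.SpecialLinearGroup.coe_one] using h2
  rw [hsh, h3_pow_shape hm] at hpow
  have hc_ne : c ≠ 0 := by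
    intro hc0'
    have h1 := congrFun (congrFun hpow 0) 0
    rw [Matrix.add_apply, Matrix.smul_apply, Matrix.smul_apply, Matrix.single_apply,
      one_apply_eq, if_neg (fun h => h0l h.2.symm), hc0', zero_pow (Nat.succ_ne_zero j)] at h1
    simp at h1
  have hx : x = 0 := by
    have h1 := congrFun (congrFun hpow 0) (Fin.last m)
    rw [Matrix.add_apply, Matrix.smul_apply, Matrix.smul_apply, Matrix.single_apply,
      one_apply_ne h0l, if_pos ⟨rfl, rfl⟩, smul_eq_mul, smul_eq_mul, mul_zero, zero_add,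
      mul_one] at h1
    have hj0 : ((j + 1 : ℕ) : F) ≠ 0 := by
      intro h
      rw [CharP.cast_eq_zero_iff F p] at h
      rw [hj] at hreg
      exact hreg h
    rcases mul_eq_zero.mp h1 with h | h
    · rcases mul_eq_zero.mp h with h | h
      · exact absurd h hj0
      · exact absurd h (pow_ne_zero j hc_ne)
    · exact h
  rw [hx, zero_smul, add_zero] at hsh
  rw [Subgroup.mem_center_iff]
  intro h
  apply Subtype.ext
  rw [Matrix.SpecialLinearGroup.coe_mul, Matrix.SpecialLinearGroup.coe_mul]
  change (h : Matrix (Fin (m + 1)) (Fin (m + 1)) F) * A = A * (h : Matrix (Fin (m + 1)) (Fin (m + 1)) F)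
  rw [hsh, Matrix.mul_smul, Matrix.smul_mul, Matrix.mul_one, Matrix.one_mul]

/-- the order of a central element of `SL_{m+1}(F)` is prime to the characteristic -/
theorem h3_center_regular [Fintype F] (p : ℕ) [Fact p.Prime] [CharP F p]
    (z : SpecialLinearGroup (Fin (m + 1)) F)
    (hz : z ∈ Subgroup.center (SpecialLinearGroup (Fin (m + 1)) F)) : ¬ p ∣ orderOf z := by
  intro hdvd
  have h1 : orderOf (⟨z, hz⟩ : Subgroup.center (SpecialLinearGroup (Fin (m + 1)) F)) ∣
      Nat.card (Subgroup.center (SpecialLinearGroup (Fin (m + 1)) F)) := orderOf_dvd_natCard _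
  rw [Cfsg.Agent.Helper7.card_center_SL (F := F) (m + 1) (by omega)] at h1
  have h2 : orderOf (⟨z, hz⟩ : Subgroup.center (SpecialLinearGroup (Fin (m + 1)) F)) =
      orderOf z := Subgroup.orderOf_mk z hz
  rw [h2] at h1
  have h3 : p ∣ Fintype.card F - 1 := (hdvd.trans h1).trans (Nat.gcd_dvd_right _ _)
  have h4 : p ∣ Fintype.card F := by
    obtain ⟨n, -, hn⟩ := FiniteField.card F p
    rw [hn]
    exact dvd_pow_self p n.ne_zero
  have h5 : 1 ≤ Fintype.card F := Fintype.card_pos
  have h6 : p ∣ 1 := by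
    have := (Nat.dvd_sub h4 h3)
    rwa [Nat.sub_sub_self h5] at this
  exact (Fact.out : p.Prime).one_lt.ne' (Nat.dvd_one.mp h6)

/-- the number of blocks of full defect of `SL_{m+1}(F)` is the order of the centre -/
theorem h3_count_full_center [Fintype F] (p : ℕ) [Fact p.Prime] [CharP F p] (m : ℕ) (hm : 1 ≤ m)
    (M : Ideal Cfsg.AlgInt) (hM : Cfsg.IsPModular p M) :
    Nat.card {B : Set (Cfsg.IrrCharacter (SpecialLinearGroup (Fin (m + 1)) F)) //
      Cfsg.IsPBlock M B ∧ Cfsg.blockDefect p B =
        (Nat.card (SpecialLinearGroup (Fin (m + 1)) F)).factorization p} =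
      Nat.card (Subgroup.center (SpecialLinearGroup (Fin (m + 1)) F)) := by
  classical
  let P : Sylow p (SpecialLinearGroup (Fin (m + 1)) F) :=
    (isPGroup_UT (F := F) (k := m + 1) p).toSylow (not_dvd_index_UT p (m + 1))
  have hP : (P : Subgroup (SpecialLinearGroup (Fin (m + 1)) F)) = UT F (m + 1) :=
    IsPGroup.toSylow_coe _ _
  rw [Nat.card_congr (Equiv.subtypeEquivRight (fun B =>
    and_congr_right (fun hB => h3_full_iff p M hM P B hB)))]
  rw [Cfsg.Agent.S0953.result p M hM P]
  symm
  apply Nat.card_congr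
  have hzN : ∀ z : Subgroup.center (SpecialLinearGroup (Fin (m + 1)) F),
      (z : SpecialLinearGroup (Fin (m + 1)) F) ∈
        Subgroup.normalizer ((P : Subgroup (SpecialLinearGroup (Fin (m + 1)) F)) : Set _) := by
    intro z
    rw [Subgroup.mem_normalizer_iff]
    intro h
    have hz := Subgroup.mem_center_iff.mp z.2
    have : (z : SpecialLinearGroup (Fin (m + 1)) F) * h * (z : SpecialLinearGroup (Fin (m + 1)) F)⁻¹ = h := by
      rw [← hz h, mul_inv_cancel_right]
    rw [this]
  have hconj : ∀ (z : Subgroup.center (SpecialLinearGroup (Fin (m + 1)) F))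
      (n : Subgroup.normalizer ((P : Subgroup (SpecialLinearGroup (Fin (m + 1)) F)) : Set _)),
      ConjClasses.mk n = ConjClasses.mk ⟨z.1, hzN z⟩ → n = ⟨z.1, hzN z⟩ := by
    intro z n h
    rw [ConjClasses.mk_eq_mk_iff_isConj, isConj_iff] at h
    obtain ⟨c, hc⟩ := h
    have hz := Subgroup.mem_center_iff.mp z.2
    apply Subtype.ext
    have h1 := congrArg Subtype.val hc
    simp only [Subgroup.coe_mul, Subgroup.coe_inv] at h1
    have h2 : (n : SpecialLinearGroup (Fin (m + 1)) F) =
        (c : SpecialLinearGroup (Fin (m + 1)) F)⁻¹ *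
          ((c : SpecialLinearGroup (Fin (m + 1)) F) * (n : SpecialLinearGroup (Fin (m + 1)) F) *
            (c : SpecialLinearGroup (Fin (m + 1)) F)⁻¹) *
          (c : SpecialLinearGroup (Fin (m + 1)) F) := by group
    rw [h2, h1, hz, inv_mul_cancel_right]
  refine Equiv.ofBijective (fun z => ⟨ConjClasses.mk ⟨z.1, hzN z⟩, ?_⟩) ⟨?_, ?_⟩
  · intro n hn
    have := hconj z n hn
    subst this
    refine ⟨?_, ?_⟩
    · rw [Subgroup.orderOf_mk]
      exact h3_center_regular p z.1 z.2
    · rw [Subgroup.mem_centralizer_iff]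
      intro h _
      exact Subgroup.mem_center_iff.mp z.2 h
  · intro z z' h
    have h1 := congrArg Subtype.val h
    have h2 := hconj z' ⟨z.1, hzN z⟩ h1
    apply Subtype.ext
    have h3 := congrArg Subtype.val h2
    exact h3
  · rintro ⟨C, hC⟩
    obtain ⟨n, rfl⟩ := ConjClasses.exists_rep C
    obtain ⟨hreg, hcent⟩ := hC n rfl
    have hcen : (n : SpecialLinearGroup (Fin (m + 1)) F) ∈
        Subgroup.center (SpecialLinearGroup (Fin (m + 1)) F) := by
      apply h3_central_of_regular p hm
      · intro u hu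
        rw [Subgroup.mem_centralizer_iff] at hcent
        exact (hcent u (by rw [hP]; exact hu)).symm
      · exact isOfFinOrder_of_finite _
      · rwa [Subgroup.orderOf_coe] 
    refine ⟨⟨n.1, hcen⟩, ?_⟩
    apply Subtype.ext
    rfl


/-- the number of blocks of full defect of `SL_{m+1}(F)` is `gcd (m+1) (|F| - 1)` -/
theorem h3_count_full [Fintype F] (p : ℕ) [Fact p.Prime] [CharP F p] (m : ℕ) (hm : 1 ≤ m)
    (M : Ideal Cfsg.AlgInt) (hM : Cfsg.IsPModular p M) :
    Nat.card {B : Set (Cfsg.IrrCharacter (SpecialLinearGroup (Fin (m + 1)) F)) //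
      Cfsg.IsPBlock M B ∧ Cfsg.blockDefect p B =
        (Nat.card (SpecialLinearGroup (Fin (m + 1)) F)).factorization p} =
      Nat.gcd (m + 1) (Fintype.card F - 1) := by
  rw [h3_count_full_center p m hm M hM,
    Cfsg.Agent.Helper7.card_center_SL (F := F) (m + 1) (by omega)]

/-- (A2) the number of blocks of full defect is the order of the centre. -/
theorem a2_full_defect_count {F : Type*} [Field F] [Fintype F] (n : ℕ) (hn : 2 ≤ n) (p : ℕ)
    [Fact p.Prime] [CharP F p] (M : Ideal Cfsg.AlgInt) (hM : Cfsg.IsPModular p M) :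
    Nat.card {B : Set (Cfsg.IrrCharacter (Matrix.SpecialLinearGroup (Fin n) F)) //
      Cfsg.IsPBlock M B ∧ Cfsg.blockDefect p B =
        (Nat.card (Matrix.SpecialLinearGroup (Fin n) F)).factorization p} =
      Nat.card (Subgroup.center (Matrix.SpecialLinearGroup (Fin n) F)) := by
  obtain ⟨m, rfl⟩ : ∃ m, n = m + 1 := ⟨n - 1, by omega⟩
  exact h3_count_full_center p m (by omega) M hM


/-- `p` divides the order of `SL_n(F)` for `n ≥ 2` -/
theorem h3_full_ne_zero {F : Type*} [Field F] [Fintype F] (p : ℕ) [Fact p.Prime] [CharP F p]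
    (n : ℕ) (hn : 2 ≤ n) :
    (Nat.card (Matrix.SpecialLinearGroup (Fin n) F)).factorization p ≠ 0 := by
  obtain ⟨m, rfl⟩ : ∃ m, n = m + 1 := ⟨n - 1, by omega⟩
  have hm : 1 ≤ m := by omega
  have hp : p.Prime := Fact.out
  have h0l := h3_zero_ne_last hm
  have hlt : (0 : Fin (m + 1)) < Fin.last m := Fin.pos_iff_ne_zero.mpr h0l.symm
  have hu : SpecialLinearGroup.transvection h0l (1 : F) ∈ UT F (m + 1) :=
    h3_tr_mem_UT h0l hlt 1
  have hu1 : (⟨SpecialLinearGroup.transvection h0l (1 : F), hu⟩ : UT F (m + 1)) ≠ 1 := by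
    intro h
    have h1 := congrArg (fun z : UT F (m + 1) =>
      ((z : SpecialLinearGroup (Fin (m + 1)) F) : Matrix (Fin (m + 1)) (Fin (m + 1)) F)
        0 (Fin.last m)) h
    simp only [Subgroup.coe_one, Matrix.SpecialLinearGroup.coe_one] at h1
    rw [tr_coe, transvection_apply, one_apply_ne h0l, if_pos ⟨rfl, rfl⟩, zero_add] at h1
    exact one_ne_zero h1
  obtain ⟨k, hk⟩ := (IsPGroup.iff_orderOf.mp (isPGroup_UT (F := F) (k := m + 1) p))
    ⟨SpecialLinearGroup.transvection h0l (1 : F), hu⟩
  have hk0 : k ≠ 0 := by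
    rintro rfl
    rw [pow_zero, orderOf_eq_one_iff] at hk
    exact hu1 hk
  have hG0 : Nat.card (SpecialLinearGroup (Fin (m + 1)) F) ≠ 0 := Nat.card_pos.ne'
  have hdvd : p ∣ Nat.card (SpecialLinearGroup (Fin (m + 1)) F) := by
    have h1 : orderOf (⟨SpecialLinearGroup.transvection h0l (1 : F), hu⟩ : UT F (m + 1)) ∣
        Nat.card (UT F (m + 1)) := orderOf_dvd_natCard _
    rw [hk] at h1
    exact ((dvd_pow_self p hk0).trans h1).trans (Subgroup.card_subgroup_dvd_card _)
  exact (hp.factorization_pos_of_dvd hG0 hdvd).ne'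

end Cfsg.Agent.SLBlk
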