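import Mathlib
import Cfsg.Agent.SLBlk.L_RadD
import Cfsg.Agent.S0906
import Cfsg.Agent.S0908
import Cfsg.Agent.S0955
import Cfsg.Agent.S0956

set_option autoImplicit false

/-!
# Every `p`-block of `SL_n(F)` in characteristic `p` has defect zero or full defect (lead)
-/

namespace Cfsg.Agent.SLBlk

open Matrix Subgroup

variable {F : Type*} [Field F] [Fintype F] {n : ℕ} (p : ℕ) [Fact p.Prime] [CharP F p]

/-- Every `p`-block of `SL_n(F)`, `F` finite of characteristic `p`, has defect `0` or the full
defect. -/
theorem l_defect (hn : 0 < n) (M : Ideal Cfsg.AlgInt) (hM : Cfsg.IsPModular p M)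
    (B : Set (Cfsg.IrrCharacter (SpecialLinearGroup (Fin n) F))) (hB : Cfsg.IsPBlock M B) :
    Cfsg.blockDefect p B = 0 ∨
      Cfsg.blockDefect p B = (Nat.card (SpecialLinearGroup (Fin n) F)).factorization p := by
  have hp : p.Prime := Fact.out
  have hfin : Finite (SpecialLinearGroup (Fin n) F) := by
    have : Function.Injective (fun g : SpecialLinearGroup (Fin n) F =>
        (g : Matrix (Fin n) (Fin n) F)) := Subtype.val_injective
    exact Finite.of_injective _ this
  obtain ⟨g, hg⟩ := Cfsg.Agent.S0906.result p M hM B hB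
  obtain ⟨P0⟩ : Nonempty (Sylow p ↥(centralizer ({g} : Set (SpecialLinearGroup (Fin n) F)))) :=
    inferInstance
  obtain ⟨D, hDdef⟩ : ∃ D : Subgroup (SpecialLinearGroup (Fin n) F),
      D = (P0 : Subgroup ↥(centralizer ({g} : Set (SpecialLinearGroup (Fin n) F)))).map
        (centralizer ({g} : Set (SpecialLinearGroup (Fin n) F))).subtype := ⟨_, rfl⟩
  have hDG : Cfsg.IsDefectGroup p M B D := ⟨g, hg, P0, hDdef⟩
  have hcard := Cfsg.Agent.S0908.result p M hM B hB D hDG
  have hrad := Cfsg.Agent.S0955.result p M hM B hB D hDG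
  have hDp : IsPGroup p D := by
    rw [hDdef]
    exact P0.isPGroup'.map _
  obtain ⟨P, hDP⟩ := hDp.exists_le_sylow
  obtain ⟨x, hxreg, ⟨S, hS⟩, -⟩ := Cfsg.Agent.S0956.result p M hM B hB D hDG P hDP
  by_cases hD : D = ⊥
  · left
    rw [hD, Subgroup.card_bot] at hcard
    by_contra h0
    have : 1 < p ^ Cfsg.blockDefect p B := Nat.one_lt_pow h0 hp.one_lt
    omega
  · right
    have hxc : x ∈ centralizer (D : Set (SpecialLinearGroup (Fin n) F)) := by
      rw [mem_centralizer_iff]
      intro d hd
      rw [← hS] at hd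
      obtain ⟨y, -, rfl⟩ := hd
      have := y.2
      rw [mem_centralizer_iff] at this
      exact (this x (Set.mem_singleton x)).symm
    have hxz := l_radical_SL p hn D hDp hD hrad x hxc hxreg
    have htop : centralizer ({x} : Set (SpecialLinearGroup (Fin n) F)) = ⊤ := by
      rw [eq_top_iff]
      intro y _
      rw [mem_centralizer_iff]
      intro z hz
      rw [Set.mem_singleton_iff] at hz
      rw [hz]
      exact (Subgroup.mem_center_iff.mp hxz y).symm
    have hcS : Nat.card D = Nat.card (S : Subgroup
        ↥(centralizer ({x} : Set (SpecialLinearGroup (Fin n) F)))) := by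
      rw [← hS]
      exact Subgroup.card_map_of_injective (Subgroup.subtype_injective _)
    have hcC : Nat.card ↥(centralizer ({x} : Set (SpecialLinearGroup (Fin n) F))) =
        Nat.card (SpecialLinearGroup (Fin n) F) := by
      rw [htop]
      exact Subgroup.card_top
    have hS2 := Sylow.card_eq_multiplicity S
    rw [hcC] at hS2
    rw [hcS, hS2] at hcard
    exact (Nat.pow_right_injective hp.two_le hcard).symm

end Cfsg.Agent.SLBlk
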