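import Mathlib
import Cfsg.Agent.SLBlk.H2_Defs
import Cfsg.Agent.SLMin.H5_Intertwiner

set_option autoImplicit false

/-!
# S4538 / S2440, piece P3a (helper5): the block embedding `SL_2(F) → SL_(m+1)(F)` at `(i, i+1)`

`p3a_iota i A` is `A` placed at the rows/columns `i.castSucc`, `i.succ`, identity elsewhere.
Relations with the root elements `xr i b`, diagonal matrices, and the unitriangular group `UT`.
-/

namespace Cfsg.Agent.SLBlk

open Matrix Cfsg.Agent.Lead.SLBN Cfsg.Agent.Helper8.AutSLn Cfsg.Agent.SLMin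

variable {F : Type*} [Field F] {m : ℕ}

/-- the indices different from `i.castSucc`, `i.succ` -/
abbrev p3a_R (i : Fin m) := {k : Fin (m + 1) // k ≠ i.castSucc ∧ k ≠ i.succ}

/-- `Fin 2 ⊕ (the other indices) ≃ Fin (m+1)`: `inl 0 ↦ i.castSucc`, `inl 1 ↦ i.succ`. -/
def p3a_e (i : Fin m) : Fin 2 ⊕ p3a_R i ≃ Fin (m + 1) where
  toFun := Sum.elim ![i.castSucc, i.succ] (fun k => k.1)
  invFun := fun k => if h0 : k = i.castSucc then Sum.inl 0 else
    if h1 : k = i.succ then Sum.inl 1 else Sum.inr ⟨k, h0, h1⟩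
  left_inv := by
    rintro (a | k)
    · fin_cases a
      · simp
      · have h : i.succ ≠ i.castSucc := (adj_ne i).symm
        simp [h]
    · simp [k.2.1, k.2.2]
  right_inv := by
    intro k
    by_cases h0 : k = i.castSucc
    · simp [h0]
    · by_cases h1 : k = i.succ
      · have h : i.succ ≠ i.castSucc := (adj_ne i).symm
        simp [h1, h]
      · simp [h0, h1]

theorem p3a_e_inl0 (i : Fin m) : p3a_e i (Sum.inl 0) = i.castSucc := rfl
theorem p3a_e_inl1 (i : Fin m) : p3a_e i (Sum.inl 1) = i.succ := rfl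
theorem p3a_e_inr (i : Fin m) (k : p3a_R i) : p3a_e i (Sum.inr k) = k.1 := rfl

/-- The matrix with `A` at rows/columns `i.castSucc`, `i.succ` and the identity elsewhere. -/
def p3a_JM (i : Fin m) (A : Matrix (Fin 2) (Fin 2) F) : Matrix (Fin (m + 1)) (Fin (m + 1)) F :=
  (Matrix.fromBlocks A 0 0 1).submatrix (p3a_e i).symm (p3a_e i).symm

theorem p3a_JM_apply (i : Fin m) (A : Matrix (Fin 2) (Fin 2) F) (a b : Fin 2 ⊕ p3a_R i) :
    p3a_JM i A (p3a_e i a) (p3a_e i b) = Matrix.fromBlocks A 0 0 1 a b := by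
  simp [p3a_JM]

theorem p3a_JM_det (i : Fin m) (A : Matrix (Fin 2) (Fin 2) F) : (p3a_JM i A).det = A.det := by
  rw [p3a_JM, Matrix.det_submatrix_equiv_self, Matrix.det_fromBlocks_zero₂₁, Matrix.det_one, mul_one]

theorem p3a_JM_mul (i : Fin m) (A B : Matrix (Fin 2) (Fin 2) F) :
    p3a_JM i (A * B) = p3a_JM i A * p3a_JM i B := by
  rw [p3a_JM, p3a_JM, p3a_JM, Matrix.submatrix_mul_equiv, Matrix.fromBlocks_multiply]
  simp

theorem p3a_JM_one (i : Fin m) : p3a_JM i (1 : Matrix (Fin 2) (Fin 2) F) = 1 := by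
  rw [p3a_JM, Matrix.fromBlocks_one, Matrix.submatrix_one_equiv]

/-- The block embedding `SL_2(F) → SL_(m+1)(F)` at `(i, i+1)`. -/
def p3a_iota (i : Fin m) : SpecialLinearGroup (Fin 2) F →* SLm F m where
  toFun A := ⟨p3a_JM i (A : Matrix (Fin 2) (Fin 2) F), by rw [p3a_JM_det]; exact A.2⟩
  map_one' := Subtype.ext (p3a_JM_one i)
  map_mul' A B := Subtype.ext (p3a_JM_mul i _ _)

theorem p3a_iota_coe (i : Fin m) (A : SpecialLinearGroup (Fin 2) F) :
    ((p3a_iota i A : SLm F m) : Matrix (Fin (m + 1)) (Fin (m + 1)) F) =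
      p3a_JM i (A : Matrix (Fin 2) (Fin 2) F) := rfl

theorem p3a_e_inl_mem (i : Fin m) (x : Fin 2) :
    p3a_e i (Sum.inl x) = i.castSucc ∨ p3a_e i (Sum.inl x) = i.succ := by
  fin_cases x
  · exact Or.inl rfl
  · exact Or.inr rfl

theorem p3a_e_inl_ne_inr (i : Fin m) (x : Fin 2) (y : p3a_R i) :
    p3a_e i (Sum.inl x) ≠ y.1 := by
  rcases p3a_e_inl_mem i x with h | h <;> rw [h]
  · exact y.2.1.symm
  · exact y.2.2.symm

theorem p3a_iota_x (i : Fin m) (b : F) : p3a_iota i (s7_x b) = xr i b := by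
  apply Subtype.ext
  rw [p3a_iota_coe, xr_coe]
  ext r s
  obtain ⟨x, rfl⟩ := (p3a_e i).surjective r
  obtain ⟨y, rfl⟩ := (p3a_e i).surjective s
  rw [p3a_JM_apply, transvection_apply]
  rcases x with x | x <;> rcases y with y | y
  · fin_cases x <;> fin_cases y <;>
      simp [s7_x, ← p3a_e_inl0, ← p3a_e_inl1]
  · rw [Matrix.fromBlocks_apply₁₂, Matrix.zero_apply, p3a_e_inr,
      Matrix.one_apply_ne (p3a_e_inl_ne_inr i x y), if_neg (fun h => y.2.2 h.2), add_zero]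
  · rw [Matrix.fromBlocks_apply₂₁, Matrix.zero_apply, p3a_e_inr,
      Matrix.one_apply_ne (p3a_e_inl_ne_inr i y x).symm, if_neg (fun h => x.2.1 h.1), add_zero]
  · rw [Matrix.fromBlocks_apply₂₂, p3a_e_inr, p3a_e_inr, if_neg (fun h => x.2.1 h.1), add_zero]
    by_cases hxy : x = y
    · subst hxy
      rw [Matrix.one_apply_eq, Matrix.one_apply_eq]
    · have hxy' : x.1 ≠ y.1 := fun h => hxy (Subtype.ext h)
      rw [Matrix.one_apply_ne hxy, Matrix.one_apply_ne hxy']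

/-! ### Diagonal matrices -/

/-- Commutation of `p3a_JM i A` with diagonal matrices. -/
theorem p3a_diag_JM (i : Fin m) (d d' : Fin (m + 1) → F) (A A' : Matrix (Fin 2) (Fin 2) F)
    (h00 : d i.castSucc * A 0 0 = A' 0 0 * d' i.castSucc)
    (h01 : d i.castSucc * A 0 1 = A' 0 1 * d' i.succ)
    (h10 : d i.succ * A 1 0 = A' 1 0 * d' i.castSucc)
    (h11 : d i.succ * A 1 1 = A' 1 1 * d' i.succ)
    (hk : ∀ k : Fin (m + 1), k ≠ i.castSucc → k ≠ i.succ → d k = d' k) :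
    Matrix.diagonal d * p3a_JM i A = p3a_JM i A' * Matrix.diagonal d' := by
  ext r s
  rw [Matrix.diagonal_mul, Matrix.mul_diagonal]
  obtain ⟨x, rfl⟩ := (p3a_e i).surjective r
  obtain ⟨y, rfl⟩ := (p3a_e i).surjective s
  rw [p3a_JM_apply, p3a_JM_apply]
  rcases x with x | x <;> rcases y with y | y
  · fin_cases x <;> fin_cases y
    · simpa [← p3a_e_inl0] using h00
    · simpa [← p3a_e_inl0, ← p3a_e_inl1] using h01
    · simpa [← p3a_e_inl0, ← p3a_e_inl1] using h10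
    · simpa [← p3a_e_inl1] using h11
  · simp
  · simp
  · by_cases hxy : x = y
    · subst hxy
      simp [p3a_e_inr, hk x.1 x.2.1 x.2.2]
    · simp [Matrix.one_apply_ne hxy]

/-- `t · ι_i(A) = ι_i(A') · t'` for diagonal `t`, `t'`. -/
theorem p3a_diag_iota (i : Fin m) (d d' : Fin (m + 1) → F) (t t' : SLm F m)
    (ht : (t : Matrix (Fin (m + 1)) (Fin (m + 1)) F) = Matrix.diagonal d)
    (ht' : (t' : Matrix (Fin (m + 1)) (Fin (m + 1)) F) = Matrix.diagonal d')
    (A A' : SpecialLinearGroup (Fin 2) F)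
    (h00 : d i.castSucc * (A : Matrix (Fin 2) (Fin 2) F) 0 0 =
      (A' : Matrix (Fin 2) (Fin 2) F) 0 0 * d' i.castSucc)
    (h01 : d i.castSucc * (A : Matrix (Fin 2) (Fin 2) F) 0 1 =
      (A' : Matrix (Fin 2) (Fin 2) F) 0 1 * d' i.succ)
    (h10 : d i.succ * (A : Matrix (Fin 2) (Fin 2) F) 1 0 =
      (A' : Matrix (Fin 2) (Fin 2) F) 1 0 * d' i.castSucc)
    (h11 : d i.succ * (A : Matrix (Fin 2) (Fin 2) F) 1 1 =
      (A' : Matrix (Fin 2) (Fin 2) F) 1 1 * d' i.succ)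
    (hk : ∀ k : Fin (m + 1), k ≠ i.castSucc → k ≠ i.succ → d k = d' k) :
    t * p3a_iota i A = p3a_iota i A' * t' := by
  apply Subtype.ext
  rw [Matrix.SpecialLinearGroup.coe_mul, Matrix.SpecialLinearGroup.coe_mul, ht, ht', p3a_iota_coe,
    p3a_iota_coe]
  exact p3a_diag_JM i d d' _ _ h00 h01 h10 h11 hk

/-- the diagonal of `h_i(a) = diag(…, a, a⁻¹, …)` -/
def p3a_hvec (i : Fin m) (a : Fˣ) : Fin (m + 1) → F :=
  fun k => if k = i.castSucc then (a : F) else if k = i.succ then ((a⁻¹ : Fˣ) : F) else 1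

theorem p3a_iota_h_coe (i : Fin m) (a : Fˣ) :
    ((p3a_iota i (s7_h a) : SLm F m) : Matrix (Fin (m + 1)) (Fin (m + 1)) F) =
      Matrix.diagonal (p3a_hvec i a) := by
  have h := p3a_diag_JM i (p3a_hvec i a) (fun _ => (1 : F)) (1 : Matrix (Fin 2) (Fin 2) F)
    ((s7_h a : SpecialLinearGroup (Fin 2) F) : Matrix (Fin 2) (Fin 2) F)
    (by simp [p3a_hvec, s7_h]) (by simp [p3a_hvec, s7_h])
    (by simp [p3a_hvec, s7_h]) (by simp [p3a_hvec, s7_h, (adj_ne i).symm])
    (fun k h0 h1 => by simp [p3a_hvec, h0, h1])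
  rw [p3a_JM_one, mul_one] at h
  rw [p3a_iota_coe, h]
  have : Matrix.diagonal (fun _ : Fin (m + 1) => (1 : F)) = 1 := Matrix.diagonal_one
  rw [this, mul_one]

theorem p3a_iota_h_mem_Bs (i : Fin m) (a : Fˣ) : p3a_iota i (s7_h a) ∈ Bs F m := by
  rw [mem_Bs, p3a_iota_h_coe]
  exact Matrix.blockTriangular_diagonal _

/-- `t x_i(b) = x_i((d_i / d_{i+1}) b) t` for diagonal `t`. -/
theorem p3a_t_x (i : Fin m) (d : Fin (m + 1) → F) (t : SLm F m)
    (ht : (t : Matrix (Fin (m + 1)) (Fin (m + 1)) F) = Matrix.diagonal d) (b : F) :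
    t * p3a_iota i (s7_x b) = p3a_iota i (s7_x (d i.castSucc * (d i.succ)⁻¹ * b)) * t := by
  have hdet : ∏ k, d k = 1 := by
    rw [← Matrix.det_diagonal, ← ht]
    exact t.2
  have hne : d i.succ ≠ 0 := by
    intro h
    rw [Finset.prod_eq_zero (Finset.mem_univ i.succ) h] at hdet
    exact zero_ne_one hdet
  refine p3a_diag_iota i d d t t ht ht _ _ ?_ ?_ ?_ ?_ (fun _ _ _ => rfl) <;> simp [s7_x]
  field_simp

/-- `t n_i = n_i t'` for diagonal `t`, with `t'` = `t` with the entries `i`, `i+1` swapped. -/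
theorem p3a_t_s (i : Fin m) (d : Fin (m + 1) → F) (t t' : SLm F m)
    (ht : (t : Matrix (Fin (m + 1)) (Fin (m + 1)) F) = Matrix.diagonal d)
    (ht' : (t' : Matrix (Fin (m + 1)) (Fin (m + 1)) F) =
      Matrix.diagonal (fun k => d (Equiv.swap i.castSucc i.succ k))) :
    t * p3a_iota i (s7_s : SpecialLinearGroup (Fin 2) F) = p3a_iota i s7_s * t' := by
  refine p3a_diag_iota i d _ t t' ht ht' _ _ ?_ ?_ ?_ ?_ (fun k h0 h1 => ?_)
  · simp [s7_s]
  · simp [s7_s]
  · simp [s7_s]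
  · simp [s7_s]
  · rw [Equiv.swap_apply_of_ne_of_ne h0 h1]

/-! ### The unitriangular group: `V_i = {u ∈ U | u_{i,i+1} = 0}` is normalised by `ι_i(SL_2)` -/

/-- the positions where an element of `V_i` may differ from the identity -/
def p3a_prec (i : Fin m) (r s : Fin (m + 1)) : Prop := r < s ∧ ¬ (r = i.castSucc ∧ s = i.succ)

theorem p3a_JM_support (i : Fin m) (A : Matrix (Fin 2) (Fin 2) F) (r a : Fin (m + 1))
    (h : p3a_JM i A r a ≠ 0) :
    a = r ∨ ((r = i.castSucc ∨ r = i.succ) ∧ (a = i.castSucc ∨ a = i.succ)) := by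
  obtain ⟨x, rfl⟩ := (p3a_e i).surjective r
  obtain ⟨y, rfl⟩ := (p3a_e i).surjective a
  rw [p3a_JM_apply] at h
  rcases x with x | x <;> rcases y with y | y
  · exact Or.inr ⟨p3a_e_inl_mem i x, p3a_e_inl_mem i y⟩
  · exact absurd (by rw [Matrix.fromBlocks_apply₁₂, Matrix.zero_apply]) h
  · exact absurd (by rw [Matrix.fromBlocks_apply₂₁, Matrix.zero_apply]) h
  · left
    by_contra hne
    apply h
    rw [Matrix.fromBlocks_apply₂₂, Matrix.one_apply_ne]
    intro hxy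
    exact hne (by rw [hxy])

theorem p3a_prec_cls (i : Fin m) (r s a b : Fin (m + 1))
    (hra : a = r ∨ ((r = i.castSucc ∨ r = i.succ) ∧ (a = i.castSucc ∨ a = i.succ)))
    (hsb : b = s ∨ ((s = i.castSucc ∨ s = i.succ) ∧ (b = i.castSucc ∨ b = i.succ)))
    (hab : p3a_prec i a b) : p3a_prec i r s := by
  unfold p3a_prec at *
  simp only [Fin.ext_iff, Fin.lt_def, Fin.val_castSucc, Fin.val_succ] at *
  omega

theorem p3a_mem_V_iff (i : Fin m) (v : SLm F m) :
    (v ∈ UT F (m + 1) ∧ (v : Matrix (Fin (m + 1)) (Fin (m + 1)) F) i.castSucc i.succ = 0) ↔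
      ∀ r s, ¬ p3a_prec i r s →
        ((v : Matrix (Fin (m + 1)) (Fin (m + 1)) F) - 1) r s = 0 := by
  constructor
  · rintro ⟨⟨hT, hD⟩, h0⟩ r s hrs
    rw [Matrix.sub_apply]
    by_cases hrs' : r = s
    · subst hrs'
      rw [hD, Matrix.one_apply_eq, sub_self]
    · rw [Matrix.one_apply_ne hrs', sub_zero]
      by_cases hlt : r < s
      · have h1 : r = i.castSucc ∧ s = i.succ := by
          by_contra hcon
          exact hrs ⟨hlt, hcon⟩
        rw [h1.1, h1.2]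
        exact h0
      · have hsr : s < r := lt_of_le_of_ne (not_lt.mp hlt) (Ne.symm hrs')
        exact hT hsr
  · intro h
    refine ⟨⟨?_, ?_⟩, ?_⟩
    · intro r s hsr
      have hsr' : s < r := hsr
      have h1 := h r s (fun hp => absurd hp.1 (not_lt.mpr hsr'.le))
      rw [Matrix.sub_apply, Matrix.one_apply_ne (ne_of_gt hsr'), sub_zero] at h1
      exact h1
    · intro r
      have h1 := h r r (fun hp => absurd hp.1 (lt_irrefl r))
      rw [Matrix.sub_apply, Matrix.one_apply_eq] at h1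
      exact sub_eq_zero.mp h1
    · have h1 := h i.castSucc i.succ (fun hp => hp.2 ⟨rfl, rfl⟩)
      rw [Matrix.sub_apply, Matrix.one_apply_ne (adj_ne i), sub_zero] at h1
      exact h1

theorem p3a_conj_support (i : Fin m) (A' A : Matrix (Fin 2) (Fin 2) F)
    (N : Matrix (Fin (m + 1)) (Fin (m + 1)) F)
    (hN : ∀ a b, ¬ p3a_prec i a b → N a b = 0) (r s : Fin (m + 1)) (hrs : ¬ p3a_prec i r s) :
    (p3a_JM i A' * N * p3a_JM i A) r s = 0 := by
  rw [Matrix.mul_apply]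
  refine Finset.sum_eq_zero (fun b _ => ?_)
  rw [Matrix.mul_apply, Finset.sum_mul]
  refine Finset.sum_eq_zero (fun a _ => ?_)
  by_contra hne
  have h1 : p3a_JM i A' r a ≠ 0 := fun h => hne (by rw [h, zero_mul, zero_mul])
  have h2 : N a b ≠ 0 := fun h => hne (by rw [h, mul_zero, zero_mul])
  have h3 : p3a_JM i A b s ≠ 0 := fun h => hne (by rw [h, mul_zero])
  have hab : p3a_prec i a b := by
    by_contra hcon
    exact h2 (hN a b hcon)
  have hra := p3a_JM_support i A' r a h1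
  have hsb : b = s ∨ ((s = i.castSucc ∨ s = i.succ) ∧ (b = i.castSucc ∨ b = i.succ)) := by
    rcases p3a_JM_support i A b s h3 with h | ⟨h, h'⟩
    · exact Or.inl h.symm
    · exact Or.inr ⟨h', h⟩
  exact hrs (p3a_prec_cls i r s a b hra hsb hab)

/-- `V_i` is normalised by `ι_i(SL_2)`. -/
theorem p3a_conj_mem_V (i : Fin m) (v : SLm F m) (hv : v ∈ UT F (m + 1))
    (hv0 : (v : Matrix (Fin (m + 1)) (Fin (m + 1)) F) i.castSucc i.succ = 0)
    (A : SpecialLinearGroup (Fin 2) F) :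
    (p3a_iota i A)⁻¹ * v * p3a_iota i A ∈ UT F (m + 1) ∧
      (((p3a_iota i A)⁻¹ * v * p3a_iota i A : SLm F m) :
        Matrix (Fin (m + 1)) (Fin (m + 1)) F) i.castSucc i.succ = 0 := by
  rw [p3a_mem_V_iff]
  have hN := (p3a_mem_V_iff i v).mp ⟨hv, hv0⟩
  have e : (((p3a_iota i A)⁻¹ * v * p3a_iota i A : SLm F m) :
      Matrix (Fin (m + 1)) (Fin (m + 1)) F) - 1 =
      p3a_JM i ((A⁻¹ : SpecialLinearGroup (Fin 2) F) : Matrix (Fin 2) (Fin 2) F) *
        ((v : Matrix (Fin (m + 1)) (Fin (m + 1)) F) - 1) *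
        p3a_JM i (A : Matrix (Fin 2) (Fin 2) F) := by
    rw [← map_inv, Matrix.SpecialLinearGroup.coe_mul, Matrix.SpecialLinearGroup.coe_mul,
      p3a_iota_coe, p3a_iota_coe, Matrix.mul_sub, Matrix.sub_mul, mul_one, ← p3a_JM_mul,
      ← Matrix.SpecialLinearGroup.coe_mul, inv_mul_cancel, Matrix.SpecialLinearGroup.coe_one,
      p3a_JM_one]
  intro r s hrs
  rw [e]
  exact p3a_conj_support i _ _ _ hN r s hrs

theorem p3a_conj_mem_UT (i : Fin m) (v : SLm F m) (hv : v ∈ UT F (m + 1))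
    (hv0 : (v : Matrix (Fin (m + 1)) (Fin (m + 1)) F) i.castSucc i.succ = 0)
    (A : SpecialLinearGroup (Fin 2) F) :
    (p3a_iota i A)⁻¹ * v * p3a_iota i A ∈ UT F (m + 1) :=
  (p3a_conj_mem_V i v hv hv0 A).1

/-- `U = X_i · V_i`. -/
theorem p3a_UT_decomp (i : Fin m) (u : SLm F m) (hu : u ∈ UT F (m + 1)) :
    ∃ (b : F) (v : SLm F m), v ∈ UT F (m + 1) ∧
      (v : Matrix (Fin (m + 1)) (Fin (m + 1)) F) i.castSucc i.succ = 0 ∧ u = xr i b * v := by
  refine ⟨(u : Matrix (Fin (m + 1)) (Fin (m + 1)) F) i.castSucc i.succ,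
    xr i (-(u : Matrix (Fin (m + 1)) (Fin (m + 1)) F) i.castSucc i.succ) * u,
    (UT F (m + 1)).mul_mem (xr_mem_UT i _) hu, ?_, ?_⟩
  · rw [Matrix.SpecialLinearGroup.coe_mul, xr_coe, Matrix.transvection_mul_apply_same,
      ((mem_UT.mp hu).2 i.succ), mul_one, add_neg_cancel]
  · rw [← mul_assoc]
    have h1 : xr i ((u : Matrix (Fin (m + 1)) (Fin (m + 1)) F) i.castSucc i.succ) *
        xr i (-(u : Matrix (Fin (m + 1)) (Fin (m + 1)) F) i.castSucc i.succ) = (1 : SLm F m) := by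
      apply Subtype.ext
      rw [Matrix.SpecialLinearGroup.coe_mul, xr_coe, xr_coe,
        Matrix.transvection_mul_transvection_same _ _ (adj_ne i), add_neg_cancel,
        Matrix.transvection_zero]
      rfl
    rw [h1, one_mul]

/-! ### Representation level: `y_s` is `U`-fixed -/

section Rep

variable {V : Type*} [AddCommGroup V] [Module ℂ V]

/-- If `y` is fixed by `U`, then so is `y_s = ∑_b ρ(ι_i(x(b) s)) y`. -/
theorem p3a_ys_fixed [Fintype F] (ρ : Representation ℂ (SLm F m) V) (i : Fin m) (y : V)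
    (hy : ∀ u ∈ UT F (m + 1), ρ u y = y) :
    ∀ u ∈ UT F (m + 1), ρ u (∑ b : F, ρ (p3a_iota i (s7_x b * s7_s)) y) =
      ∑ b : F, ρ (p3a_iota i (s7_x b * s7_s)) y := by
  intro u hu
  obtain ⟨b₀, v, hv, hv0, rfl⟩ := p3a_UT_decomp i u hu
  have hV : ρ v (∑ b : F, ρ (p3a_iota i (s7_x b * s7_s)) y) =
      ∑ b : F, ρ (p3a_iota i (s7_x b * s7_s)) y := by
    rw [map_sum]
    refine Finset.sum_congr rfl (fun b _ => ?_)
    have hk : v * p3a_iota i (s7_x b * s7_s) =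
        p3a_iota i (s7_x b * s7_s) *
          ((p3a_iota i (s7_x b * s7_s))⁻¹ * v * p3a_iota i (s7_x b * s7_s)) := by
      rw [mul_assoc, mul_inv_cancel_left]
    rw [← h5_rho_mul, hk, h5_rho_mul, hy _ (p3a_conj_mem_UT i v hv hv0 _)]
  rw [h5_rho_mul, hV, ← p3a_iota_x]
  exact h5_s7_inv (ρ.comp (p3a_iota i)) y b₀

end Rep

end Cfsg.Agent.SLBlk
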