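import Mathlib
import Cfsg.Agent.SLBlk.H5_P3a

set_option autoImplicit false

/-!
# S4538 / S2440, piece P3d (helper5): diagonal elements of `SL_(m+1)(F)`

`p3a_dg d hd` is the diagonal matrix with entries `d k : Fˣ` (product one).  `B = T · U`, the torus is
generated by the `h_i(a) = ι_i(s7_h a)`, and the representation-level form of (P3).
-/

namespace Cfsg.Agent.SLBlk

open Matrix Cfsg.Agent.Lead.SLBN Cfsg.Agent.Helper8.AutSLn Cfsg.Agent.SLMin

variable {F : Type*} [Field F] {m : ℕ}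

/-- the diagonal element with entries `d k`. -/
def p3a_dg (d : Fin (m + 1) → Fˣ) (hd : ∏ k, d k = 1) : SLm F m :=
  ⟨Matrix.diagonal (fun k => ((d k : Fˣ) : F)), by
    rw [Matrix.det_diagonal, ← Units.coe_prod, hd, Units.val_one]⟩

theorem p3a_dg_coe (d : Fin (m + 1) → Fˣ) (hd : ∏ k, d k = 1) :
    ((p3a_dg d hd : SLm F m) : Matrix (Fin (m + 1)) (Fin (m + 1)) F) =
      Matrix.diagonal (fun k => ((d k : Fˣ) : F)) := rfl

theorem p3a_dg_mem_Bs (d : Fin (m + 1) → Fˣ) (hd : ∏ k, d k = 1) : p3a_dg d hd ∈ Bs F m := by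
  rw [mem_Bs, p3a_dg_coe]
  exact Matrix.blockTriangular_diagonal _

theorem p3a_dg_congr (d d' : Fin (m + 1) → Fˣ) (hd : ∏ k, d k = 1) (hd' : ∏ k, d' k = 1)
    (h : ∀ k, d k = d' k) : p3a_dg d hd = p3a_dg d' hd' := by
  have : d = d' := funext h
  subst this
  rfl

theorem p3a_dg_eq_one (d : Fin (m + 1) → Fˣ) (hd : ∏ k, d k = 1) (h : ∀ k, d k = 1) :
    p3a_dg d hd = 1 := by
  apply Subtype.ext
  rw [p3a_dg_coe, Matrix.SpecialLinearGroup.coe_one, ← Matrix.diagonal_one]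
  congr 1
  funext k
  rw [h k, Units.val_one]

theorem p3a_dg_mul (d d' : Fin (m + 1) → Fˣ) (hd : ∏ k, d k = 1) (hd' : ∏ k, d' k = 1)
    (hdd : ∏ k, (d k * d' k) = 1) :
    p3a_dg d hd * p3a_dg d' hd' = p3a_dg (fun k => d k * d' k) hdd := by
  apply Subtype.ext
  rw [Matrix.SpecialLinearGroup.coe_mul, p3a_dg_coe, p3a_dg_coe, p3a_dg_coe,
    Matrix.diagonal_mul_diagonal]
  congr 1

/-- `a` at `k`, `a⁻¹` at `l`, `1` elsewhere. -/
def p3a_dvec (k l : Fin (m + 1)) (a : Fˣ) : Fin (m + 1) → Fˣ :=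
  fun x => if x = k then a else if x = l then a⁻¹ else 1

theorem p3a_dvec_prod (k l : Fin (m + 1)) (hkl : k ≠ l) (a : Fˣ) :
    ∏ x, p3a_dvec k l a x = 1 := by
  have h : ∀ x, p3a_dvec k l a x = (if x = k then a else 1) * (if x = l then a⁻¹ else 1) := by
    intro x
    unfold p3a_dvec
    by_cases h1 : x = k
    · have h2 : x ≠ l := fun h => hkl (h1.symm.trans h)
      rw [if_pos h1, if_pos h1, if_neg h2, mul_one]
    · rw [if_neg h1, if_neg h1, one_mul]
  rw [Finset.prod_congr rfl (fun x _ => h x), Finset.prod_mul_distrib,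
    Finset.prod_ite_eq' Finset.univ k (fun _ => a), Finset.prod_ite_eq' Finset.univ l (fun _ => a⁻¹),
    if_pos (Finset.mem_univ _), if_pos (Finset.mem_univ _), mul_inv_cancel]

theorem p3a_iota_h_eq_dg (i : Fin m) (a : Fˣ) :
    p3a_iota i (s7_h a) =
      p3a_dg (p3a_dvec i.castSucc i.succ a) (p3a_dvec_prod _ _ (adj_ne i) a) := by
  apply Subtype.ext
  rw [p3a_iota_h_coe, p3a_dg_coe]
  congr 1
  funext k
  unfold p3a_hvec p3a_dvec
  split_ifs <;> simp

/-- `B = T · U`. -/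
theorem p3a_Bs_decomp (b : SLm F m) (hb : b ∈ Bs F m) :
    ∃ (d : Fin (m + 1) → Fˣ) (hd : ∏ k, d k = 1), ∃ u ∈ UT F (m + 1), b = p3a_dg d hd * u := by
  have hdet : ∏ k, (b : Matrix (Fin (m + 1)) (Fin (m + 1)) F) k k = 1 := by
    rw [← Matrix.det_of_isUpperTriangular (mem_Bs.mp hb)]
    exact b.2
  have hne : ∀ k, (b : Matrix (Fin (m + 1)) (Fin (m + 1)) F) k k ≠ 0 := fun k h => by
    rw [Finset.prod_eq_zero (f := fun k => (b : Matrix (Fin (m + 1)) (Fin (m + 1)) F) k k)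
      (Finset.mem_univ k) h] at hdet
    exact zero_ne_one hdet
  have hd : ∏ k, (Units.mk0 _ (hne k) : Fˣ) = 1 := by
    apply Units.ext
    rw [Units.coe_prod, Units.val_one]
    simpa using hdet
  have hd' : ∏ k, (Units.mk0 _ (hne k) : Fˣ)⁻¹ = 1 := by
    rw [Finset.prod_inv_distrib, hd, inv_one]
  have hinv : (p3a_dg (fun k => (Units.mk0 _ (hne k) : Fˣ)) hd)⁻¹ =
      p3a_dg (fun k => (Units.mk0 _ (hne k) : Fˣ)⁻¹) hd' := by
    apply inv_eq_of_mul_eq_one_right
    rw [p3a_dg_mul _ _ hd hd' (by simp)]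
    exact p3a_dg_eq_one _ _ (fun k => mul_inv_cancel _)
  refine ⟨fun k => Units.mk0 _ (hne k), hd, (p3a_dg _ hd)⁻¹ * b, ?_,
    (mul_inv_cancel_left _ _).symm⟩
  rw [mem_UT]
  refine ⟨mem_Bs.mp ((Bs F m).mul_mem ((Bs F m).inv_mem (p3a_dg_mem_Bs _ hd)) hb), fun k => ?_⟩
  rw [hinv, Matrix.SpecialLinearGroup.coe_mul, p3a_dg_coe, Matrix.diagonal_mul]
  simp [hne k]

/-- Induction principle: the torus is generated by the `h_i(a)`. -/
theorem p3a_dg_induction (P : SLm F m → Prop) (h1 : P 1)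
    (hmul : ∀ (i : Fin m) (a : Fˣ) (g : SLm F m), P g → P (p3a_iota i (s7_h a) * g))
    (d : Fin (m + 1) → Fˣ) (hd : ∏ k, d k = 1) : P (p3a_dg d hd) := by
  have key : ∀ n : ℕ, ∀ (d : Fin (m + 1) → Fˣ) (hd : ∏ k, d k = 1),
      (∀ k : Fin (m + 1), k.val + n < m → d k = 1) → P (p3a_dg d hd) := by
    intro n
    induction n with
    | zero =>
      intro d hd hk
      have hlast : d (Fin.last m) = 1 := by
        rw [Fin.prod_univ_castSucc, Finset.prod_eq_one (fun i _ => hk i.castSucc (by simp)),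
          one_mul] at hd
        exact hd
      rw [p3a_dg_eq_one d hd (fun k => by
        refine Fin.lastCases hlast (fun i => hk i.castSucc (by simp)) k)]
      exact h1
    | succ n ih =>
      intro d hd hk
      by_cases hn : n + 1 ≤ m
      · have hj : m - (n + 1) < m := by omega
        let i : Fin m := ⟨m - (n + 1), hj⟩
        have hprod : ∏ k, ((p3a_dvec i.castSucc i.succ (d i.castSucc) k)⁻¹ * d k) = 1 := by
          rw [Finset.prod_mul_distrib, Finset.prod_inv_distrib, p3a_dvec_prod _ _ (adj_ne i), hd,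
            inv_one, one_mul]
        have hprod2 : ∏ k, (p3a_dvec i.castSucc i.succ (d i.castSucc) k *
            ((p3a_dvec i.castSucc i.succ (d i.castSucc) k)⁻¹ * d k)) = 1 := by
          rw [Finset.prod_congr rfl (fun k _ => mul_inv_cancel_left _ _), hd]
        have e : p3a_dg d hd = p3a_iota i (s7_h (d i.castSucc)) *
            p3a_dg (fun k => (p3a_dvec i.castSucc i.succ (d i.castSucc) k)⁻¹ * d k) hprod := by
          rw [p3a_iota_h_eq_dg, p3a_dg_mul _ _ _ hprod hprod2]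
          exact p3a_dg_congr _ _ _ _ (fun k => (mul_inv_cancel_left _ _).symm)
        rw [e]
        refine hmul i _ _ (ih _ hprod (fun k hkn => ?_))
        by_cases hkj : k.val < m - (n + 1)
        · have h1' : k ≠ i.castSucc := fun h => by
            have : k.val = m - (n + 1) := by rw [h]; rfl
            omega
          have h2' : k ≠ i.succ := fun h => by
            have : k.val = m - (n + 1) + 1 := by rw [h]; rfl
            omega
          have : p3a_dvec i.castSucc i.succ (d i.castSucc) k = 1 := by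
            unfold p3a_dvec
            rw [if_neg h1', if_neg h2']
          rw [this, inv_one, one_mul]
          exact hk k (by omega)
        · have hki : k = i.castSucc := Fin.ext (by
            show k.val = m - (n + 1)
            omega)
          have : p3a_dvec i.castSucc i.succ (d i.castSucc) k = d i.castSucc := by
            unfold p3a_dvec
            rw [if_pos hki]
          rw [this, hki, inv_mul_cancel]
      · exact ih d hd (fun k hkn => absurd hkn (by omega))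
  exact key m d hd (fun k hk => absurd hk (by omega))

/-- A character of `B` trivial on all `h_i(a)` is trivial on the diagonal elements. -/
theorem p3a_lam_dg {M : Type*} [Monoid M] (lam : ↥(Bs F m) →* M)
    (h : ∀ (i : Fin m) (a : Fˣ), lam ⟨p3a_iota i (s7_h a), p3a_iota_h_mem_Bs i a⟩ = 1)
    (d : Fin (m + 1) → Fˣ) (hd : ∏ k, d k = 1) :
    lam ⟨p3a_dg d hd, p3a_dg_mem_Bs d hd⟩ = 1 := by
  have := p3a_dg_induction (F := F) (m := m)
    (fun g => ∀ hg : g ∈ Bs F m, lam ⟨g, hg⟩ = 1)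
    (fun hg => map_one lam)
    (fun i a g hP hg' => by
      have hg : g ∈ Bs F m := by
        have := (Bs F m).mul_mem ((Bs F m).inv_mem (p3a_iota_h_mem_Bs i a)) hg'
        rwa [inv_mul_cancel_left] at this
      have e : (⟨p3a_iota i (s7_h a) * g, hg'⟩ : ↥(Bs F m)) =
          ⟨p3a_iota i (s7_h a), p3a_iota_h_mem_Bs i a⟩ * ⟨g, hg⟩ := rfl
      rw [e, map_mul, h, hP hg, one_mul]) d hd
  exact this _

/-- A character of `B` trivial on `U` and on all `h_i(a)` is trivial. -/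
theorem p3a_lam_trivial_of {M : Type*} [Monoid M] (lam : ↥(Bs F m) →* M)
    (hU : ∀ b : ↥(Bs F m), (b : SLm F m) ∈ UT F (m + 1) → lam b = 1)
    (h : ∀ (i : Fin m) (a : Fˣ), lam ⟨p3a_iota i (s7_h a), p3a_iota_h_mem_Bs i a⟩ = 1) :
    lam = 1 := by
  ext b
  obtain ⟨d, hd, u, hu, hb⟩ := p3a_Bs_decomp (b : SLm F m) b.2
  have huB : u ∈ Bs F m := mem_Bs.mpr (mem_UT.mp hu).1
  have e : b = ⟨p3a_dg d hd, p3a_dg_mem_Bs d hd⟩ * ⟨u, huB⟩ := Subtype.ext hb
  rw [e, map_mul, p3a_lam_dg lam h, hU ⟨u, huB⟩ hu, one_mul]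
  rfl

/-! ### Representation level form of (P3) -/

section Rep

variable {V : Type*} [AddCommGroup V] [Module ℂ V]

/-- `SLMin.s7_torus` without the `DecidableEq`/`FiniteDimensional` assumptions. -/
theorem p3a_torus [Fintype F] {G : Type*} [Group G] (ι : SpecialLinearGroup (Fin 2) F →* G)
    (ρ : Representation ℂ G V) (y : V) (t t' : G) (r : Fˣ)
    (hconj : ∀ b : F, t * ι (s7_x b) = ι (s7_x ((r : F) * b)) * t)
    (hs : t * ι s7_s = ι s7_s * t') (c : ℂ) (ht' : ρ t' y = c • y) :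
    ρ t (∑ b : F, ρ (ι (s7_x b * s7_s)) y) = c • ∑ b : F, ρ (ι (s7_x b * s7_s)) y := by
  rw [map_sum, Finset.smul_sum]
  refine Fintype.sum_equiv (Equiv.mulLeft₀ (r : F) r.ne_zero) _ _ (fun b => ?_)
  rw [Equiv.mulLeft₀_apply]
  have h1 : t * ι (s7_x b * s7_s) = ι (s7_x ((r : F) * b) * s7_s) * t' := by
    rw [map_mul, ← mul_assoc, hconj, mul_assoc, hs, ← mul_assoc, ← map_mul]
  calc ρ t (ρ (ι (s7_x b * s7_s)) y) = ρ (t * ι (s7_x b * s7_s)) y :=
        (h5_rho_mul ρ _ _ y).symm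
    _ = ρ (ι (s7_x ((r : F) * b) * s7_s)) (ρ t' y) := by
        rw [h1, h5_rho_mul]
    _ = c • ρ (ι (s7_x ((r : F) * b) * s7_s)) y := by
        rw [ht', map_smul]

/-- If `y ≠ 0` is a `lam`-eigenvector of `B` spanning the `U`-fixed vectors, then `lam` is invariant
under swapping the diagonal entries `i`, `i+1`. -/
theorem p3a_lam_swap [Fintype F] (ρ : Representation ℂ (SLm F m) V)
    (lam : ↥(Bs F m) →* ℂˣ) (hlam : TrivOnU lam) (y : V) (hy : y ≠ 0)
    (hB : ∀ b : ↥(Bs F m), ρ (b : SLm F m) y = ((lam b : ℂˣ) : ℂ) • y)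
    (h1 : ∀ z : V, (∀ u ∈ UT F (m + 1), ρ u z = z) → ∃ c : ℂ, z = c • y)
    (i : Fin m) (d : Fin (m + 1) → Fˣ) (hd : ∏ k, d k = 1)
    (hd' : ∏ k, d (Equiv.swap i.castSucc i.succ k) = 1) :
    lam ⟨p3a_dg d hd, p3a_dg_mem_Bs d hd⟩ =
      lam ⟨p3a_dg (fun k => d (Equiv.swap i.castSucc i.succ k)) hd', p3a_dg_mem_Bs _ hd'⟩ := by
  have hyU : ∀ u ∈ UT F (m + 1), ρ u y = y := by
    intro u hu
    have huB : u ∈ Bs F m := mem_Bs.mpr (mem_UT.mp hu).1
    have := hB ⟨u, huB⟩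
    rw [hlam ⟨u, huB⟩ hu, Units.val_one, one_smul] at this
    exact this
  have hne : (∑ b : F, ρ (p3a_iota i (s7_x b * s7_s)) y) ≠ 0 :=
    h5_s7_ne (ρ.comp (p3a_iota i)) y hy
      (fun b => by
        show ρ (p3a_iota i (s7_x b)) y = y
        rw [p3a_iota_x]
        exact hyU _ (xr_mem_UT i b))
      (fun a => ((lam ⟨p3a_iota i (s7_h a), p3a_iota_h_mem_Bs i a⟩ : ℂˣ) : ℂ))
      (fun a => hB ⟨_, p3a_iota_h_mem_Bs i a⟩)
  obtain ⟨c, hc⟩ := h1 _ (p3a_ys_fixed ρ i y hyU)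
  have hc0 : c ≠ 0 := by
    rintro rfl
    rw [zero_smul] at hc
    exact hne hc
  have hconj : ∀ b : F, p3a_dg d hd * p3a_iota i (s7_x b) =
      p3a_iota i (s7_x (((d i.castSucc * (d i.succ)⁻¹ : Fˣ) : F) * b)) * p3a_dg d hd := by
    intro b
    rw [p3a_t_x i (fun k => ((d k : Fˣ) : F)) (p3a_dg d hd) rfl b, Units.val_mul,
      Units.val_inv_eq_inv_val]
  have hs : p3a_dg d hd * p3a_iota i (s7_s : SpecialLinearGroup (Fin 2) F) =
      p3a_iota i s7_s * p3a_dg (fun k => d (Equiv.swap i.castSucc i.succ k)) hd' :=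
    p3a_t_s i (fun k => ((d k : Fˣ) : F)) (p3a_dg d hd) _ rfl rfl
  have ht := p3a_torus (p3a_iota i) ρ y (p3a_dg d hd) _ _ hconj hs _
    (hB ⟨_, p3a_dg_mem_Bs _ hd'⟩)
  rw [hc, map_smul, hB ⟨_, p3a_dg_mem_Bs d hd⟩, smul_smul, smul_smul] at ht
  have h2 := smul_left_injective ℂ hy ht
  apply Units.ext
  have h3 : c * ((lam ⟨p3a_dg d hd, p3a_dg_mem_Bs d hd⟩ : ℂˣ) : ℂ) =
      c * ((lam ⟨p3a_dg (fun k => d (Equiv.swap i.castSucc i.succ k)) hd',
        p3a_dg_mem_Bs _ hd'⟩ : ℂˣ) : ℂ) := by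
    rw [h2, mul_comm]
  exact mul_left_cancel₀ hc0 h3

/-- (P3), representation level: for `n = m + 1 ≥ 3`, if `y ≠ 0` is a `lam`-eigenvector of `B` and
spans the `U`-fixed vectors, then `lam = 1`. -/
theorem p3a_lam_trivial_rep [Fintype F] (hm : 2 ≤ m) (ρ : Representation ℂ (SLm F m) V)
    (lam : ↥(Bs F m) →* ℂˣ) (hlam : TrivOnU lam) (y : V) (hy : y ≠ 0)
    (hB : ∀ b : ↥(Bs F m), ρ (b : SLm F m) y = ((lam b : ℂˣ) : ℂ) • y)
    (h1 : ∀ z : V, (∀ u ∈ UT F (m + 1), ρ u z = z) → ∃ c : ℂ, z = c • y) :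
    lam = 1 := by
  refine p3a_lam_trivial_of lam hlam (fun i a => ?_)
  obtain ⟨j, hj0, hj1⟩ : ∃ j : Fin (m + 1), j ≠ i.castSucc ∧ j ≠ i.succ := by
    by_cases h0 : i.val = 0
    · refine ⟨Fin.last m, fun h => ?_, fun h => ?_⟩
      · have := congrArg Fin.val h
        simp at this
        omega
      · have := congrArg Fin.val h
        simp at this
        omega
    · refine ⟨0, fun h => ?_, fun h => ?_⟩
      · have := congrArg Fin.val h
        simp at this
        omega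
      · have := congrArg Fin.val h
        simp at this
  have hcs : i.castSucc ≠ i.succ := adj_ne i
  have hsw : ∀ k, p3a_dvec i.castSucc j a (Equiv.swap i.castSucc i.succ k) =
      p3a_dvec i.succ j a k := by
    intro k
    by_cases hk0 : k = i.castSucc
    · subst hk0
      rw [Equiv.swap_apply_left]
      unfold p3a_dvec
      rw [if_neg hcs.symm, if_neg hj1.symm, if_neg hcs, if_neg hj0.symm]
    · by_cases hk1 : k = i.succ
      · subst hk1
        rw [Equiv.swap_apply_right]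
        unfold p3a_dvec
        rw [if_pos rfl, if_pos rfl]
      · rw [Equiv.swap_apply_of_ne_of_ne hk0 hk1]
        unfold p3a_dvec
        rw [if_neg hk0, if_neg hk1]
  have hd := p3a_dvec_prod i.castSucc j hj0.symm a
  have hd1 := p3a_dvec_prod i.succ j hj1.symm a
  have hd' : ∏ k, p3a_dvec i.castSucc j a (Equiv.swap i.castSucc i.succ k) = 1 := by
    rw [Finset.prod_congr rfl (fun k _ => hsw k), hd1]
  have e1 := p3a_lam_swap ρ lam hlam y hy hB h1 i (p3a_dvec i.castSucc j a) hd hd'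
  have e2 : p3a_dg (fun k => p3a_dvec i.castSucc j a (Equiv.swap i.castSucc i.succ k)) hd' =
      p3a_dg (p3a_dvec i.succ j a) hd1 := p3a_dg_congr _ _ _ _ hsw
  have hmulv : ∀ k, p3a_dvec i.castSucc j a k =
      p3a_dvec i.castSucc i.succ a k * p3a_dvec i.succ j a k := by
    intro k
    unfold p3a_dvec
    by_cases hk0 : k = i.castSucc
    · subst hk0
      rw [if_pos rfl, if_pos rfl, if_neg hcs, if_neg hj0.symm, mul_one]
    · by_cases hk1 : k = i.succ
      · subst hk1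
        rw [if_neg hk0, if_neg hj1.symm, if_neg hk0, if_pos rfl, if_pos rfl, inv_mul_cancel]
      · rw [if_neg hk0, if_neg hk0, if_neg hk1, if_neg hk1, one_mul]
  have hprod : ∏ k, (p3a_dvec i.castSucc i.succ a k * p3a_dvec i.succ j a k) = 1 := by
    rw [← Finset.prod_congr rfl (fun k _ => hmulv k), hd]
  have e3 : p3a_dg (p3a_dvec i.castSucc j a) hd =
      p3a_iota i (s7_h a) * p3a_dg (p3a_dvec i.succ j a) hd1 := by
    rw [p3a_iota_h_eq_dg, p3a_dg_mul _ _ _ hd1 hprod]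
    exact p3a_dg_congr _ _ _ _ hmulv
  have e4 : (⟨p3a_dg (p3a_dvec i.castSucc j a) hd, p3a_dg_mem_Bs _ hd⟩ : ↥(Bs F m)) =
      ⟨p3a_iota i (s7_h a), p3a_iota_h_mem_Bs i a⟩ *
        ⟨p3a_dg (p3a_dvec i.succ j a) hd1, p3a_dg_mem_Bs _ hd1⟩ := Subtype.ext e3
  have e5 : (⟨p3a_dg (fun k => p3a_dvec i.castSucc j a (Equiv.swap i.castSucc i.succ k)) hd',
      p3a_dg_mem_Bs _ hd'⟩ : ↥(Bs F m)) =
      ⟨p3a_dg (p3a_dvec i.succ j a) hd1, p3a_dg_mem_Bs _ hd1⟩ := Subtype.ext e2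
  rw [e4, e5, map_mul] at e1
  exact mul_eq_right.mp e1

end Rep

end Cfsg.Agent.SLBlk
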